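import Cfsg.Agent.H263.TW.Pol_m3
import Cfsg.Agent.H95.Hig.Num
import Cfsg.Agent.S0493
import Cfsg.Agent.FastGrp
import Cfsg.Agent.Prune
set_option linter.all false

section
prune_inst 0x7ffdfefbfdfcffffffff7e7ffffddffe39d4dfffffdfff4bffedfbffffff23e73be5fbaf1de4d8ffced7e2be30b87853fbffeeffef6fdc7ffffd5ff45ffbee1ff7ffbf8d71f6bc340ffc6ffffbf37fffffffffffffffffffffffffffffffffffffffffffffff

-- part: H506/Tits/StmtsB_mg
section
prune_inst 0x20000000000000000000001c0282000000000b0001000000000480840100000620a0000300010000240038004000000009000000000000020041180080000020800000a000000000008800000000000000000000000000000000000000000000000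
set_option linter.all false
open scoped Cfsg.Agent.FastGrp

-- part: H506/Tits/StmtsB
section
/-!
# S3414, case (B): the statements of the pieces (helper506)

`y` has the type `b` of case (B), `x` is a neighbour of `y`, `E = K x ⊓ K y`.
-/

set_option autoImplicit false

namespace Cfsg.Agent.H506.Tits

open Cfsg.Agent.H873.Tits

universe u v

/-- B0: `K x ≤ K y` (then `K x = 1 = E`).  helper115 -/
def StB0 : Prop := ∀ {G : Type u} [Group G] [Finite G] {V : Type v} [Finite V] [MulAction G V] (P : Pol G V), Facts P → Num P →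
  ∀ {b : Bool}, CaseB P b → ∀ {x y : V}, P.adj x y → P.tp y = b → P.K x ≤ P.K y → False

/-- BAff: `L y` is affine.  helper263 -/
def StBAff : Prop := ∀ {G : Type u} [Group G] [Finite G] {V : Type v} [Finite V] [MulAction G V] (P : Pol G V), Facts P → Num P →
  ∀ {b : Bool}, CaseB P b → ∀ {x y : V}, P.adj x y → P.tp y = b → ¬ P.K x ≤ P.K y → Aff (P.L y) → False

/-- BE1: `E = 1`, `L y` is not affine.  helper115 -/
def StBE1 : Prop := ∀ {G : Type u} [Group G] [Finite G] {V : Type v} [Finite V] [MulAction G V] (P : Pol G V), Facts P → Num P →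
  ∀ {b : Bool}, CaseB P b → ∀ {x y : V}, P.adj x y → P.tp y = b → ¬ P.K x ≤ P.K y → ¬ Aff (P.L y) → P.K x ⊓ P.K y = ⊥ → False

/-- BAS: `E ≠ 1`, the point stabilizer `A y = Stb (L y) x` is almost simple.  helper272 -/
def StBAS : Prop := ∀ {G : Type u} [Group G] [Finite G] {V : Type v} [Finite V] [MulAction G V] (P : Pol G V), Facts P → Num P →
  ∀ {b : Bool}, CaseB P b → ∀ {x y : V} (hxy : P.adj y x), P.tp y = b → ¬ P.K x ≤ P.K y → ¬ Aff (P.L y) → P.K x ⊓ P.K y ≠ ⊥ →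
  ∀ N : Subgroup (Equiv.Perm {w : V // P.adj y w}), N ≤ Stb (P.L y) ⟨x, hxy⟩ → (N.subgroupOf (Stb (P.L y) ⟨x, hxy⟩)).Normal →
  IsSimpleGroup N → ¬ IsMulCommutative N →
  Subgroup.centralizer (N : Set (Equiv.Perm {w : V // P.adj y w})) ⊓ Stb (P.L y) ⟨x, hxy⟩ = ⊥ → False

/-- BPSL: `E ≠ 1`, `L y` is of type `PSL_d`, `d ≥ 3`. -/
def StBPSL : Prop := ∀ {G : Type u} [Group G] [Finite G] {V : Type v} [Finite V] [MulAction G V] (P : Pol G V), Facts P → Num P →
  ∀ {b : Bool}, CaseB P b → ∀ {x y : V}, P.adj x y → P.tp y = b → ¬ P.K x ≤ P.K y → ¬ Aff (P.L y) → P.K x ⊓ P.K y ≠ ⊥ →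
  ∀ {p d f : ℕ}, PSLType (P.L y) p d f → ∀ {a c : {w : V // P.adj y w}} {Q : Subgroup (Equiv.Perm {w : V // P.adj y w})},
  LQ (P.L y) (P.q b) p a c Q → False

/-- BRk: `L y` is not affine, `O_p (A y) ≠ 1`, `q b` is a power of `p`.  helper506 -/
def StBRk : Prop := ∀ {G : Type u} [Group G] [Finite G] {V : Type v} [Finite V] [MulAction G V] (P : Pol G V), Facts P → Num P →
  ∀ {b : Bool}, CaseB P b → ∀ {y : V}, P.tp y = b → ¬ Aff (P.L y) →
  ∀ {p : ℕ} {a c : {w : V // P.adj y w}} {Q : Subgroup (Equiv.Perm {w : V // P.adj y w})},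
  LQ (P.L y) (P.q b) p a c Q → (∃ k, P.q b = p ^ k) → False

/-- BS5: the exception of `StTab2`.  helper506 -/
def StBS5 : Prop := ∀ {G : Type u} [Group G] [Finite G] {V : Type v} [Finite V] [MulAction G V] (P : Pol G V), Facts P → Num P →
  ∀ {b : Bool}, CaseB P b → ∀ {y y' : V}, P.tp y = b → P.Opp y y' → P.q b = 4 → Nat.card ↥(P.L y) = 120 →
  Nat.card ↥(P.L' y y') = 20 → False

/-- case (B) is impossible -/
def StBFalse : Prop := ∀ {G : Type u} [Group G] [Finite G] {V : Type v} [Finite V] [MulAction G V] (P : Pol G V), Facts P → Num P →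
  ∀ {b : Bool}, CaseB P b → False

end Cfsg.Agent.H506.Tits
end

-- part: H263/TW/Chain
section
/-!
# The chain lemma of case (B) (helper263, S3414)
-/

set_option autoImplicit false

namespace Cfsg.Agent.H263.TW

open Subgroup Cfsg.Agent.H873.Tits Cfsg.Agent.Lib Cfsg.Agent.Lib.LocalCore Cfsg.Agent.H900.TWCore

universe u v

variable {G : Type u} [Group G] {V : Type v} [MulAction G V]

/-! ### images on the neighbours -/

section Img

variable {P : Pol G V} {v : V} {X X' : Subgroup G}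

theorem mem_img {σ : Equiv.Perm {w : V // P.adj v w}} :
    σ ∈ P.img v X ↔ ∃ g : G, ∃ hg : g ∈ P.S v, g ∈ X ∧ P.toPerm v ⟨g, hg⟩ = σ := by
  constructor
  · rintro ⟨g, hg, rfl⟩
    exact ⟨g, g.2, hg, rfl⟩
  · rintro ⟨g, hg, hX, rfl⟩
    exact ⟨⟨g, hg⟩, hX, rfl⟩

theorem img_mono (h : X ≤ X') : P.img v X ≤ P.img v X' := by
  intro σ hσ
  obtain ⟨g, hg, hX, rfl⟩ := mem_img.1 hσ
  exact mem_img.2 ⟨g, hg, h hX, rfl⟩

theorem img_le_L : P.img v X ≤ P.L v := by
  intro σ hσ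
  obtain ⟨g, hg, hX, rfl⟩ := mem_img.1 hσ
  exact mem_img.2 ⟨g, hg, hg, rfl⟩

theorem toPerm_eq_one {g : G} (hg : g ∈ P.S v) : P.toPerm v ⟨g, hg⟩ = 1 ↔ g ∈ P.K v := by
  constructor
  · intro h
    refine ⟨hg, fun w hw => ?_⟩
    have := congrArg (fun σ => ((σ ⟨w, hw⟩ : {w : V // P.adj v w}) : V)) h
    simpa using this
  · intro h
    ext w
    simpa only [_root_.Cfsg.Agent.H873.Tits.Pol.toPerm_apply, _root_.Equiv.Perm.coe_one, _root_.id_eq] using h.2 w.1 w.2

/-- the stabilizer of a neighbour -/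
theorem img_S {x : V} (hx : P.adj v x) : P.img v (P.S x) = Stb (P.L v) ⟨x, hx⟩ := by
  apply le_antisymm
  · intro σ hσ
    obtain ⟨g, hg, hX, rfl⟩ := mem_img.1 hσ
    exact ⟨mem_img.2 ⟨g, hg, hg, rfl⟩, Subtype.ext hX⟩
  · rintro σ ⟨h1, h2⟩
    obtain ⟨g, hg, -, rfl⟩ := mem_img.1 h1
    exact mem_img.2 ⟨g, hg, congrArg Subtype.val h2, rfl⟩

/-- `|X| = |img v X| * |X ⊓ K v|` -/
theorem card_img [Finite G] (hX : X ≤ P.S v) : Nat.card (P.img v X) * Nat.card ↥(X ⊓ P.K v) = Nat.card X := by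
  let f : X →* Equiv.Perm {w : V // P.adj v w} := (P.toPerm v).comp (Subgroup.inclusion hX)
  have h1 : f.range = P.img v X := by
    ext σ
    rw [mem_img]
    constructor
    · rintro ⟨g, rfl⟩
      exact ⟨g, hX g.2, g.2, rfl⟩
    · rintro ⟨g, hg, hgX, rfl⟩
      exact ⟨⟨g, hgX⟩, rfl⟩
  have h2 : f.ker = (X ⊓ P.K v).subgroupOf X := by
    ext g
    rw [MonoidHom.mem_ker, mem_subgroupOf, mem_inf]
    change P.toPerm v ⟨g, hX g.2⟩ = 1 ↔ _
    rw [toPerm_eq_one]
    exact ⟨fun h => ⟨g.2, h⟩, fun h => h.2⟩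
  have h3 := f.ker.card_mul_index
  rw [Subgroup.index_ker, h1, h2] at h3
  have h4 : Nat.card ↥((X ⊓ P.K v).subgroupOf X) = Nat.card ↥(X ⊓ P.K v) :=
    Nat.card_congr (Subgroup.subgroupOfEquivOfLe inf_le_left).toEquiv
  rw [h4] at h3
  rw [mul_comm]
  exact h3

theorem img_normal (hn : ∀ g ∈ X, ∀ a ∈ X', g * a * g⁻¹ ∈ X') :
    ((P.img v X').subgroupOf (P.img v X)).Normal := by
  constructor
  rintro ⟨σ, hσ⟩ hσ' ⟨τ, hτ⟩
  obtain ⟨g, hg, hgX, rfl⟩ := mem_img.1 hτ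
  obtain ⟨a, ha, haX, hae⟩ := mem_img.1 (show σ ∈ P.img v X' from hσ')
  refine mem_img.2 ⟨g * a * g⁻¹, (P.S v).mul_mem ((P.S v).mul_mem hg ha) ((P.S v).inv_mem hg), hn g hgX a haX, ?_⟩
  show P.toPerm v (⟨g, hg⟩ * ⟨a, ha⟩ * ⟨g, hg⟩⁻¹) = _
  rw [map_mul, map_mul, map_inv, hae]
  rfl

theorem finite_nb (P : Pol G V) (v : V) : Finite {w : V // P.adj v w} := by
  have h3 : Nat.card {w : V // P.adj v w} ≠ 0 := by rw [P.card_nb v]; omega
  exact (Nat.card_ne_zero.1 h3).2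

/-- `|Stb x| = t * |T2|` -/
theorem card_Stb [Finite G] (F : Facts P) {x z : V} (hx : P.adj v x) (hz : P.adj v z) (hxz : x ≠ z) :
    Nat.card ↥(P.img v (P.S x)) = P.q (P.tp v) * P.T2 v x z := by
  classical
  have := finite_nb P v
  let A := P.img v (P.S x)
  let z' : {w : V // P.adj v w} := ⟨z, hz⟩
  have h1 : MulAction.orbit A z' = {w | w.1 ≠ x} := by
    ext w
    constructor
    · rintro ⟨⟨σ, hσ⟩, rfl⟩
      obtain ⟨g, hg, hgX, rfl⟩ := mem_img.1 hσ
      intro h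
      have h' : g • z = x := h
      apply hxz
      rw [← mem_S.1 hgX] at h'
      exact (smul_left_cancel g h').symm
    · intro hw
      obtain ⟨g, hg, h1, h2⟩ := F.two_trans hx hz hxz hx w.2 (Ne.symm hw)
      exact ⟨⟨P.toPerm v ⟨g, hg⟩, mem_img.2 ⟨g, hg, h1, rfl⟩⟩, Subtype.ext h2⟩
  have h2 : Nat.card (MulAction.orbit A z') = P.q (P.tp v) := by
    rw [h1]
    have h3 : Nat.card {w : {w : V // P.adj v w} | w.1 ≠ x} = Nat.card {w : V // P.adj v w} - 1 := by
      have h4 : {w : {w : V // P.adj v w} | w.1 ≠ x} = ({⟨x, hx⟩} : Set _)ᶜ := by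
        ext w
        simp only [Set.mem_ofPred_eq, Set.mem_compl_iff, Set.mem_singleton_iff, ne_eq]
        exact not_congr ⟨fun h => Subtype.ext h, fun h => congrArg Subtype.val h⟩
      rw [h4, Nat.card_coe_set_eq, Set.ncard_compl, Set.ncard_singleton]
    rw [h3, P.card_nb]
    rfl
  have h5 : Nat.card (MulAction.stabilizer A z') = P.T2 v x z := by
    unfold Pol.T2
    have h6 : (P.img v (P.S x ⊓ P.S z)).subgroupOf A = MulAction.stabilizer A z' := by
      ext ⟨σ, hσ⟩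
      rw [mem_subgroupOf]
      constructor
      · intro h
        obtain ⟨g, hg, hgX, hgs⟩ := mem_img.1 h
        have : σ z' = z' := by
          rw [← show P.toPerm v ⟨g, hg⟩ = σ from hgs]
          exact Subtype.ext hgX.2
        exact this
      · intro h
        obtain ⟨g, hg, hgX, rfl⟩ := mem_img.1 hσ
        exact mem_img.2 ⟨g, hg, ⟨hgX, congrArg Subtype.val (show P.toPerm v ⟨g, hg⟩ z' = z' from h)⟩, rfl⟩
    rw [← h6]
    exact Nat.card_congr (Subgroup.subgroupOfEquivOfLe (img_mono inf_le_left)).toEquiv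
  have h7 := Nat.card_congr (MulAction.orbitEquivQuotientStabilizer A z')
  have h8 := (MulAction.stabilizer A z').card_mul_index
  rw [Subgroup.index, ← h7, h2, h5] at h8
  rw [← h8, mul_comm]

end Img

/-! ### The kernels `EB v` on the balls of radius two -/

section Ball

variable {P : Pol G V} {b : Bool}

/-- the kernel on the ball of radius two about `v` -/
def EB (P : Pol G V) (v : V) : Subgroup G := P.K v ⊓ ⨅ x : {x // P.adj v x}, P.K x.1

theorem EB_le_K (v : V) : EB P v ≤ P.K v := inf_le_left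

theorem EB_le_K_nb {v x : V} (h : P.adj v x) : EB P v ≤ P.K x :=
  inf_le_right.trans (iInf_le (fun x : {x // P.adj v x} => P.K x.1) ⟨x, h⟩)

theorem mem_EB {v : V} {g : G} : g ∈ EB P v ↔ g ∈ P.K v ∧ ∀ x, P.adj v x → g ∈ P.K x := by
  constructor
  · exact fun h => ⟨EB_le_K v h, fun x hx => EB_le_K_nb hx h⟩
  · rintro ⟨h1, h2⟩
    exact mem_inf.2 ⟨h1, mem_iInf.2 fun x => h2 x.1 x.2⟩

theorem EB_fix {v x w : V} (h : P.adj v x) (h' : P.adj x w) {g : G} (hg : g ∈ EB P v) : g • w = w :=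
  (EB_le_K_nb h hg).2 w h'

theorem EB_smul (g : G) (v : V) : EB P (g • v) = (EB P v).map (MulAut.conj g).toMonoidHom := by
  ext a
  rw [mem_map_equiv, MulAut.conj_symm_apply, mem_EB, mem_EB, K_smul, mem_map_equiv, MulAut.conj_symm_apply]
  refine and_congr_right fun _ => ?_
  constructor
  · intro h x hx
    have := h (g • x) (P.smul_adj g hx)
    rwa [K_smul, mem_map_equiv, MulAut.conj_symm_apply] at this
  · intro h x hx
    have h1 : P.adj v (g⁻¹ • x) := by
      have := P.smul_adj g⁻¹ hx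
      rwa [inv_smul_smul] at this
    have h2 := conj_mem_K' (g := g) (h _ h1)
    rw [smul_inv_smul] at h2
    rwa [show g * (g⁻¹ * a * g) * g⁻¹ = a by group] at h2

theorem conj_mem_EB {v : V} {g a : G} (hg : g ∈ P.S v) (ha : a ∈ EB P v) : g * a * g⁻¹ ∈ EB P v := by
  have h1 : g * a * g⁻¹ ∈ EB P (g • v) := by
    rw [EB_smul]
    exact ⟨a, ha, rfl⟩
  rwa [mem_S.1 hg] at h1

/-- In case (B) the group `K x ⊓ K v` is the kernel on the ball. -/
theorem EB_eq (hB : CaseB P b) {x v : V} (hv : P.tp v = b) (h : P.adj x v) : P.K x ⊓ P.K v = EB P v := by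
  apply le_antisymm
  · intro g hg
    exact mem_EB.2 ⟨hg.2, fun z hz => hB.ball hv h (P.symm hz) hg⟩
  · exact le_inf (EB_le_K_nb (P.symm h)) (EB_le_K v)

end Ball

/-! ### The chain -/

section Chain

variable {P : Pol G V} {b : Bool}

/-- `EB (p a) ⊓ EB (p (a + 2)) ⊓ ... ⊓ EB (p (a + 2 k))` -/
def J (P : Pol G V) (p : ℕ → V) (a : ℕ) : ℕ → Subgroup G
  | 0 => EB P (p a)
  | k + 1 => J P p a k ⊓ EB P (p (a + 2 * (k + 1)))

theorem J_succ' (p : ℕ → V) (a k : ℕ) : J P p a (k + 1) = EB P (p a) ⊓ J P p (a + 2) k := by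
  induction k with
  | zero => rfl
  | succ k ih =>
    rw [J, ih, J, inf_assoc, show a + 2 + 2 * (k + 1) = a + 2 * (k + 1 + 1) by ring]

theorem J_le (p : ℕ → V) (a k : ℕ) {j : ℕ} (hj : j ≤ k) : J P p a k ≤ EB P (p (a + 2 * j)) := by
  induction k with
  | zero =>
    obtain rfl : j = 0 := by omega
    exact le_rfl
  | succ k ih =>
    rcases Nat.lt_or_ge j (k + 1) with h | h
    · exact inf_le_left.trans (ih (by omega))
    · obtain rfl : j = k + 1 := by omega
      exact inf_le_right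

theorem J_anti (p : ℕ → V) (a k : ℕ) : J P p a (k + 1) ≤ J P p a k := inf_le_left

theorem J_smul {p p' : ℕ → V} {a a' k : ℕ} {g : G} (h : ∀ j, j ≤ k → g • p (a + 2 * j) = p' (a' + 2 * j)) :
    J P p' a' k = (J P p a k).map (MulAut.conj g).toMonoidHom := by
  induction k with
  | zero =>
    have h0 := h 0 le_rfl
    simp only [Nat.mul_zero, Nat.add_zero] at h0
    rw [J, J, ← EB_smul, h0]
  | succ k ih =>
    rw [J, J, ih (fun j hj => h j (by omega)), ← h (k + 1) le_rfl, EB_smul,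
      Subgroup.map_inf _ _ _ (MulAut.conj g).injective]

theorem tp_add_two {p : ℕ → V} {k i : ℕ} (hp : IsPath P.adj k p) (hi : i + 2 ≤ k) : P.tp (p (i + 2)) = P.tp (p i) := by
  rw [P.tp_adj (hp.1 (i + 1) (by omega)), P.tp_adj (hp.1 i (by omega)), Bool.not_not]

/-- the groups `J` for the shifted path are conjugate -/
theorem card_J_shift [Finite G] {p : ℕ → V} (hp : IsPath P.adj (P.n + 1) p) {a k : ℕ} (h : a + 2 + 2 * k ≤ P.n + 1) :
    Nat.card (J P p (a + 2) k) = Nat.card (J P p a k) := by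
  have h1 : IsPath P.adj (2 * k) (fun i => p (a + i)) :=
    ⟨fun i hi => hp.1 (a + i) (by omega), fun i hi => hp.2 (a + i) (by omega)⟩
  have h2 : IsPath P.adj (2 * k) (fun i => p (a + 2 + i)) := by
    refine ⟨fun i hi => ?_, fun i hi => ?_⟩
    · have := hp.1 (a + 2 + i) (by omega)
      rwa [show a + 2 + i + 1 = a + 2 + (i + 1) by ring] at this
    · have := hp.2 (a + 2 + i) (by omega)
      rwa [show a + 2 + i + 2 = a + 2 + (i + 2) by ring] at this
  obtain ⟨g, hg⟩ := P.trans (by omega) h1 h2 (by simpa using (tp_add_two hp (i := a) (by omega)).symm)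
  rw [J_smul (p := p) (p' := p) (a := a) (a' := a + 2) (k := k) (g := g) fun j hj => hg (2 * j) (by omega)]
  exact (Nat.card_congr ((J P p a k).equivMapOfInjective _ (MulAut.conj g).injective).toEquiv).symm

theorem J_inf_K (hB : CaseB P b) {p : ℕ → V} (hp : IsPath P.adj (P.n + 1) p) (h1 : P.tp (p 1) = b) (k : ℕ) :
    J P p 3 k ⊓ P.K (p 1) = J P p 1 (k + 1) := by
  have hn : 4 ≤ P.n := by rcases P.hn with h | h | h <;> omega
  have h12 := hp.1 1 (by omega)
  have h23 := hp.1 2 (by omega)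
  rw [J_succ', ← EB_eq hB h1 (P.symm h12)]
  apply le_antisymm
  · refine le_inf (le_inf ?_ inf_le_right) inf_le_left
    exact inf_le_left.trans ((J_le p 3 k (Nat.zero_le k)).trans (EB_le_K_nb (P.symm h23)))
  · exact le_inf inf_le_right (inf_le_left.trans inf_le_right)

theorem J_eq_bot (F : Facts P) {p : ℕ → V} (hp : IsPath P.adj (P.n + 1) p) : J P p 1 (P.n / 2 - 1) = ⊥ := by
  have hn : 4 ≤ P.n ∧ P.n = 2 * (P.n / 2) := by rcases P.hn with h | h | h <;> rw [h] <;> decide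
  obtain ⟨hn4, hn2⟩ := hn
  rw [eq_bot_iff]
  intro g hg
  rw [mem_bot]
  have h0 : g ∈ EB P (p 1) := by
    have := J_le p 1 (P.n / 2 - 1) (Nat.zero_le _) hg
    simpa using this
  refine F.rigid (p := p) (i := 1) hp (by omega) (EB_le_K _ h0) (EB_le_K_nb (hp.1 1 (by omega)) h0) ?_
  refine mem_iInf.2 ?_
  rintro ⟨i, hi⟩
  show g • p i = p i
  rcases Nat.eq_zero_or_pos i with rfl | hi0
  · exact (EB_le_K _ h0).2 _ (P.symm (hp.1 0 (by omega)))
  obtain ⟨j, hj⟩ : ∃ j, i = 1 + 2 * j ∨ i = 2 + 2 * j := ⟨(i - 1) / 2, by omega⟩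
  by_cases hjm : j ≤ P.n / 2 - 1
  · have h2 := J_le p 1 (P.n / 2 - 1) hjm hg
    rcases hj with rfl | rfl
    · exact (EB_le_K _ h2).1
    · have h3 := hp.1 (1 + 2 * j) (by omega)
      rw [show 1 + 2 * j + 1 = 2 + 2 * j by ring] at h3
      exact (EB_le_K _ h2).2 _ h3
  · obtain rfl : i = P.n + 1 := by omega
    have h2 := J_le p 1 (P.n / 2 - 1) le_rfl hg
    have h3 := hp.1 (1 + 2 * (P.n / 2 - 1)) (by omega)
    have h4 := hp.1 (1 + 2 * (P.n / 2 - 1) + 1) (by omega)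
    rw [show 1 + 2 * (P.n / 2 - 1) + 1 + 1 = P.n + 1 by omega] at h4
    exact EB_fix h3 h4 h2

/-- an element of `J P p 3 (m - 2)` fixing a further neighbour of `p 1` is trivial -/
theorem J_semireg (F : Facts P) {p : ℕ → V} (hp : IsPath P.adj (P.n + 1) p) {g : G}
    (hg : g ∈ J P p 3 (P.n / 2 - 2)) {u : V} (hu : P.adj (p 1) u) (hne : u ≠ p 2) (hgu : g • u = u) : g = 1 := by
  have hn : 4 ≤ P.n ∧ P.n = 2 * (P.n / 2) := by rcases P.hn with h | h | h <;> rw [h] <;> decide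
  obtain ⟨hn4, hn2⟩ := hn
  -- replace `p 0` by `u`
  set p' : ℕ → V := fun i => if i = 0 then u else p i with hp'
  have hp0 : ∀ i, i ≠ 0 → p' i = p i := fun i hi => if_neg hi
  have hpath : IsPath P.adj (P.n + 1) p' := by
    refine ⟨fun i hi => ?_, fun i hi => ?_⟩
    · rcases Nat.eq_zero_or_pos i with rfl | hi0
      · show P.adj (p' 0) (p' 1)
        rw [hp0 1 (by omega)]
        exact P.symm hu
      · rw [hp0 i (by omega), hp0 (i + 1) (by omega)]
        exact hp.1 i hi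
    · rcases Nat.eq_zero_or_pos i with rfl | hi0
      · show p' 2 ≠ u
        rw [hp0 2 (by omega)]
        exact hne.symm
      · rw [hp0 i (by omega), hp0 (i + 2) (by omega)]
        exact hp.2 i hi
  have h3 : g ∈ EB P (p 3) := by
    have := J_le p 3 (P.n / 2 - 2) (Nat.zero_le _) hg
    simpa using this
  have h2 : g ∈ P.K (p 2) := EB_le_K_nb (P.symm (hp.1 2 (by omega))) h3
  refine F.rigid (p := p') (i := 2) hpath (by omega) ?_ ?_ ?_
  · rw [hp0 2 (by omega)]; exact h2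
  · rw [hp0 3 (by omega)]; exact EB_le_K _ h3
  · refine mem_iInf.2 ?_
    rintro ⟨i, hi⟩
    show g • p' i = p' i
    rcases Nat.eq_zero_or_pos i with rfl | hi0
    · exact hgu
    rw [hp0 i (by omega)]
    by_cases hi1 : i = 1
    · subst hi1
      exact h2.2 _ (P.symm (hp.1 1 (by omega)))
    by_cases hi2 : i = 2
    · subst hi2
      exact h2.1
    obtain ⟨j, hj⟩ : ∃ j, i = 3 + 2 * j ∨ i = 4 + 2 * j := ⟨(i - 3) / 2, by omega⟩
    by_cases hjm : j ≤ P.n / 2 - 2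
    · have h2 := J_le p 3 (P.n / 2 - 2) hjm hg
      rcases hj with rfl | rfl
      · exact (EB_le_K _ h2).1
      · have h3 := hp.1 (3 + 2 * j) (by omega)
        rw [show 3 + 2 * j + 1 = 4 + 2 * j by ring] at h3
        exact (EB_le_K _ h2).2 _ h3
    · obtain rfl : i = P.n + 1 := by omega
      have h2 := J_le p 3 (P.n / 2 - 2) le_rfl hg
      have h3 := hp.1 (3 + 2 * (P.n / 2 - 2)) (by omega)
      have h4 := hp.1 (3 + 2 * (P.n / 2 - 2) + 1) (by omega)
      rw [show 3 + 2 * (P.n / 2 - 2) + 1 + 1 = P.n + 1 by (clear * - hn4 hn2; omega)] at h4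
      exact EB_fix h3 h4 h2

/-- the image of `J P p 3 k` is subnormal in the point stabilizer -/
theorem img_J_subnormal {p : ℕ → V} (hp : IsPath P.adj (P.n + 1) p) {k : ℕ} (hk : 3 + 2 * k ≤ P.n + 1) :
    J P p 3 k ≤ P.S (p 1) ⊓ P.S (p 2) ∧
    ((P.img (p 1) (J P p 3 k)).subgroupOf (P.img (p 1) (P.S (p 2)))).IsSubnormal := by
  have hn : 4 ≤ P.n := by rcases P.hn with h | h | h <;> omega
  have h12 := hp.1 1 (by omega)
  have h23 := hp.1 2 (by omega)
  have hEK : EB P (p 3) ≤ P.K (p 2) := EB_le_K_nb (P.symm h23)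
  have hJK : ∀ k, J P p 3 k ≤ P.K (p 2) := fun k => ((J_le p 3 k (Nat.zero_le k)).trans hEK)
  refine ⟨le_inf ((hJK k).trans (K_le_S_nb (P.symm h12))) ((hJK k).trans (P.K_le_S _)), ?_⟩
  -- the first step
  have hK : ((P.img (p 1) (P.K (p 2))).subgroupOf (P.img (p 1) (P.S (p 2)))).Normal :=
    img_normal fun g hg a ha => conj_mem_K hg ha
  have hstep : ∀ {X X' : Subgroup G}, X' ≤ X → X ≤ P.S (p 2) → (∀ g ∈ X, ∀ a ∈ X', g * a * g⁻¹ ∈ X') →
      ((P.img (p 1) X).subgroupOf (P.img (p 1) (P.S (p 2)))).IsSubnormal →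
      ((P.img (p 1) X').subgroupOf (P.img (p 1) (P.S (p 2)))).IsSubnormal := by
    intro X X' h h' hn' hs
    refine IsSubnormal.step _ _ (fun σ hσ => img_mono h hσ) hs ?_
    constructor
    rintro ⟨⟨σ, hσ⟩, hσ1⟩ hσ' ⟨⟨τ, hτ⟩, hτ'⟩
    have h1 := (img_normal (P := P) (v := p 1) hn').conj_mem ⟨σ, img_mono h (show σ ∈ P.img (p 1) X' from hσ')⟩
      (show σ ∈ P.img (p 1) X' from hσ') ⟨τ, hτ'⟩
    exact h1
  have h0 : ((P.img (p 1) (J P p 3 0)).subgroupOf (P.img (p 1) (P.S (p 2)))).IsSubnormal := by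
    refine hstep hEK (P.K_le_S _) (fun g hg a ha => conj_mem_EB ?_ ha) hK.isSubnormal
    exact hg.2 _ h23
  induction k with
  | zero => exact h0
  | succ k ih =>
    refine hstep (J_anti p 3 k) ((hJK k).trans (P.K_le_S _)) (fun g hg a ha => ?_) (ih (by omega))
    refine ⟨?_, ?_⟩
    · exact (J P p 3 k).mul_mem ((J P p 3 k).mul_mem hg ha.1) ((J P p 3 k).inv_mem hg)
    · refine conj_mem_EB ?_ ha.2
      have h2 := J_le p 3 k le_rfl hg
      have h3 := hp.1 (3 + 2 * k) (by omega)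
      have h4 := hp.1 (3 + 2 * k + 1) (by omega)
      rw [show 3 + 2 * k + 1 + 1 = 3 + 2 * (k + 1) by ring] at h4
      exact EB_fix h3 h4 h2

/-- the two point stabilizer and `idx` in case (B) -/
theorem caseB_T2 [Finite G] (F : Facts P) (hB : CaseB P b) {p : ℕ → V} (hp : IsPath P.adj (P.n + 1) p)
    (h1 : P.tp (p 1) = b) {y' : V} (hy' : P.Opp (p 1) y') :
    P.T2 (p 1) (p 0) (p 2) = P.idx (p 1) y' * Nat.card ↥(P.H p) := by
  have hn : 4 ≤ P.n := by rcases P.hn with h | h | h <;> omega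
  have h2 := F.count_T2 (i := 0) hy' hp (by omega) rfl
  have h3 := F.card_k (i := 1) hy' hp (by omega) rfl
  rw [F.caseB_k hB h1 hy', Subgroup.card_bot] at h3
  rw [← h3, mul_one] at h2
  exact h2

theorem T2_symm (v a c : V) : P.T2 v a c = P.T2 v c a := by
  unfold Pol.T2
  rw [inf_comm]

/-- `i_y |K y| = t^(m-1) s^m` -/
theorem caseB_idx (F : Facts P) (hB : CaseB P b) {y y' : V} (h1 : P.tp y = b) (hy' : P.Opp y y') :
    P.idx y y' * Nat.card ↥(P.K y) = P.q b ^ (P.n / 2 - 1) * P.q (!b) ^ (P.n / 2) := by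
  have h2 := F.count_opp hy'
  rw [F.caseB_k hB h1 hy', Subgroup.card_bot, mul_one, h1] at h2
  exact h2

/-- `|K y| = |E| * |N_x|` and `|N_x|` divides `s` -/
theorem caseB_card_K [Finite G] (F : Facts P) (hB : CaseB P b) {x y w : V} (hy : P.tp y = b) (hxy : P.adj y x)
    (hxw : P.adj x w) (hw : w ≠ y) :
    ∃ d, d ∣ P.q (!b) ∧ Nat.card ↥(P.K y) = Nat.card (EB P y) * d := by
  have h1 : P.K y ⊓ P.S w = EB P y := by
    apply le_antisymm
    · rw [← EB_eq hB hy (P.symm hxy)]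
      exact le_inf (hB.semireg hy (P.symm hxy) (P.symm hxw) hw) inf_le_left
    · exact le_inf (EB_le_K y) fun g hg => EB_fix hxy hxw hg
  refine ⟨(EB P y).relIndex (P.K y), ?_, ?_⟩
  · have h2 := F.relIndex_dvd (x := y) (y := x) (w := w) hxy (P.symm hxw) hw.symm
    rw [h1, P.tp_adj hxy, hy] at h2
    exact h2
  · have h3 := Subgroup.card_mul_index ((EB P y).subgroupOf (P.K y))
    rw [Nat.card_congr (Subgroup.subgroupOfEquivOfLe (EB_le_K (P := P) y)).toEquiv] at h3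
    exact h3.symm

/-- **The chain lemma.** -/
theorem chain [Finite G] (F : Facts P) (hB : CaseB P b) {r : ℕ} (hr : r.Prime) {x y z : V} (hx : P.adj y x)
    (hz : P.adj y z) (hxz : x ≠ z) (hy : P.tp y = b) (h2 : ¬ r ∣ P.T2 y x z) :
    ¬ r ∣ P.q (!b) ∧ (Nat.card (EB P y)).factorization r = (P.n / 2 - 1) * (P.q b).factorization r ∧
    ∃ M : Subgroup (Equiv.Perm {w : V // P.adj y w}), M ≤ Stb (P.L y) ⟨x, hx⟩ ∧
      (M.subgroupOf (Stb (P.L y) ⟨x, hx⟩)).IsSubnormal ∧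
      (∀ g ∈ M, ∀ u, u ≠ ⟨x, hx⟩ → g u = u → g = 1) ∧
      (Nat.card M).factorization r = (P.q b).factorization r := by
  have hn : 4 ≤ P.n ∧ P.n = 2 * (P.n / 2) := by rcases P.hn with h | h | h <;> rw [h] <;> decide
  obtain ⟨hn4, hn2⟩ := hn
  -- the path
  obtain ⟨p, hp, hpe⟩ := F.extend (k := 2) (p := fun i => if i = 0 then z else if i = 1 then y else x) (by omega)
    ⟨fun i hi => by
      have : i = 0 ∨ i = 1 := by omega
      rcases this with rfl | rfl
      · simpa using P.symm hz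
      · simpa using hx, fun i hi => by
      obtain rfl : i = 0 := by omega
      simpa using hxz⟩
  have hp0 : p 0 = z := by simpa using hpe 0 (by omega)
  have hp1 : p 1 = y := by simpa using hpe 1 (by omega)
  have hp2 : p 2 = x := by simpa using hpe 2 (by omega)
  have hb : P.tp (p 1) = b := by rw [hp1]; exact hy
  obtain ⟨y', hy'⟩ := F.exists_opp y
  have hT := caseB_T2 F hB hp hb (by rw [hp1]; exact hy')
  rw [hp0, hp1, hp2, T2_symm] at hT
  have hidx : (P.idx y y').factorization r = 0 := by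
    apply Nat.factorization_eq_zero_of_not_dvd
    intro h
    exact h2 (hT ▸ h.mul_right _)
  have hcount := caseB_idx F hB hy hy'
  obtain ⟨d, hd, hK⟩ := caseB_card_K F hB hy hx (w := p 3) (by rw [← hp2]; exact hp.1 2 (by omega))
    (by rw [← hp1]; exact hp.2 1 (by omega))
  set τ := (P.q b).factorization r with hτ
  set σ := (P.q (!b)).factorization r with hσ
  have hqb : P.q b ≠ 0 := by have := P.two_le b; omega
  have hqb' : P.q (!b) ≠ 0 := by have := P.two_le (!b); omega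
  have hE0 : Nat.card (EB P y) ≠ 0 := Nat.card_pos.ne'
  have hd0 : d ≠ 0 := fun h => hqb' (Nat.eq_zero_of_zero_dvd (h ▸ hd))
  have hdσ : d.factorization r ≤ σ := (Nat.factorization_le_iff_dvd hd0 hqb').2 hd r
  have hrhs0 : P.q b ^ (P.n / 2 - 1) * P.q (!b) ^ (P.n / 2) ≠ 0 := by (clear * - hqb hqb'; positivity)
  have hi0 : P.idx y y' ≠ 0 := fun h => by rw [h, zero_mul] at hcount; exact hrhs0 hcount.symm
  have hfac : (Nat.card (EB P y)).factorization r + d.factorization r = (P.n / 2 - 1) * τ + (P.n / 2) * σ := by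
    have h3 := congrArg (fun k : ℕ => k.factorization r) hcount
    beta_reduce at h3
    rw [hK, Nat.factorization_mul hi0 (mul_ne_zero hE0 hd0), Nat.factorization_mul hE0 hd0,
      Nat.factorization_mul (pow_ne_zero _ hqb) (pow_ne_zero _ hqb'), Nat.factorization_pow, Nat.factorization_pow] at h3
    simp only [Finsupp.coe_add, Pi.add_apply, Finsupp.coe_smul, Pi.smul_apply, smul_eq_mul, hidx, zero_add] at h3
    exact h3
  -- the chain
  have hfin := finite_nb P (p 1)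
  have hStb : (Nat.card ↥(P.img (p 1) (P.S (p 2)))).factorization r = τ := by
    have h3 := card_Stb F (v := y) hx hz hxz
    rw [hp1, hp2, h3, Nat.factorization_mul (by rw [hy]; exact hqb) ?_, hy]
    · simp [Nat.factorization_eq_zero_of_not_dvd h2, hτ]
    · intro h; exact h2 (h ▸ dvd_zero _)
  have hle : ∀ k, 3 + 2 * k ≤ P.n + 1 → (Nat.card ↥(P.img (p 1) (J P p 3 k))).factorization r ≤ τ := by
    intro k hk
    rw [← hStb]
    have h3 := (img_J_subnormal hp hk).1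
    exact (Nat.factorization_le_iff_dvd Nat.card_pos.ne' Nat.card_pos.ne').2
      (Subgroup.card_dvd_of_le (img_mono (h3.trans inf_le_right))) r
  have hfk : ∀ k, 3 + 2 * k ≤ P.n + 1 → (Nat.card ↥(J P p 3 k)).factorization r =
      (Nat.card ↥(P.img (p 1) (J P p 3 k))).factorization r + (Nat.card ↥(J P p 1 (k + 1))).factorization r := by
    intro k hk
    have h3 := card_img ((img_J_subnormal hp hk).1.trans inf_le_left)
    rw [J_inf_K hB hp hb] at h3
    rw [← h3, Nat.factorization_mul Nat.card_pos.ne' Nat.card_pos.ne']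
    rfl
  have hsh : ∀ k, 3 + 2 * k ≤ P.n + 1 → (Nat.card ↥(J P p 1 k)).factorization r =
      (Nat.card ↥(J P p 3 k)).factorization r := by
    intro k hk
    rw [← card_J_shift hp (a := 1) (k := k) (by omega)]
  have hend : (Nat.card ↥(J P p 1 (P.n / 2 - 1))).factorization r = 0 := by
    rw [J_eq_bot F hp, Subgroup.card_bot]
    simp
  have hE1 : (Nat.card (EB P y)).factorization r = (Nat.card ↥(J P p 1 0)).factorization r := by
    rw [J, hp1]
  have key : σ = 0 ∧ (Nat.card (EB P y)).factorization r = (P.n / 2 - 1) * τ ∧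
      (Nat.card ↥(P.img (p 1) (J P p 3 (P.n / 2 - 2)))).factorization r = τ := by
    rcases P.hn with h | h | h
    · have e0 := hfk 0 (by omega)
      have s0 := hsh 0 (by omega)
      have l0 := hle 0 (by omega)
      rw [h] at hend hfac ⊢
      norm_num only [_root_.one_mul] at e0 hend hfac ⊢
      omega
    · have e0 := hfk 0 (by omega)
      have e1 := hfk 1 (by omega)
      have s0 := hsh 0 (by omega)
      have s1 := hsh 1 (by omega)
      have l0 := hle 0 (by omega)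
      have l1 := hle 1 (by omega)
      rw [h] at hend hfac ⊢
      norm_num only [] at e0 e1 hend hfac ⊢
      (clear * - hdσ hE1 s0 s1 l0 l1 e0 e1 hend hfac; omega)
    · have e0 := hfk 0 (by omega)
      have e1 := hfk 1 (by omega)
      have e2 := hfk 2 (by omega)
      have s0 := hsh 0 (by omega)
      have s1 := hsh 1 (by omega)
      have s2 := hsh 2 (by omega)
      have l0 := hle 0 (by omega)
      have l1 := hle 1 (by omega)
      have l2 := hle 2 (by omega)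
      rw [h] at hend hfac ⊢
      norm_num only [] at e0 e1 e2 hend hfac ⊢
      (clear * - hdσ hE1 s0 s1 s2 l0 l1 l2 e0 e1 e2 hend hfac; omega)
  obtain ⟨k1, k2, k3⟩ := key
  refine ⟨fun h => ?_, k2, ?_⟩
  · have := (hr.dvd_iff_one_le_factorization hqb').1 h
    omega
  · have hsub := img_J_subnormal hp (k := P.n / 2 - 2) (by omega)
    have hse : ∀ g ∈ J P p 3 (P.n / 2 - 2), ∀ u, P.adj (p 1) u → u ≠ p 2 → g • u = u → g = 1 :=
      fun g hg u hu hne h => J_semireg F hp hg hu hne h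
    clear_value τ σ
    subst hp1 hp2
    refine ⟨P.img (p 1) (J P p 3 (P.n / 2 - 2)), ?_, ?_, ?_, k3⟩
    · rw [← img_S hx]
      exact img_mono (hsub.1.trans inf_le_right)
    · rw [← img_S hx]
      exact hsub.2
    · rintro g hg ⟨u, hu⟩ hne hgu
      obtain ⟨a, ha, haJ, rfl⟩ := mem_img.1 hg
      have h3 := hse a haJ u hu (fun h => hne (Subtype.ext h)) (congrArg Subtype.val hgu)
      subst h3
      exact map_one _

end Chain

end Cfsg.Agent.H263.TW
end

-- part: H115/Tits/Kill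
section
/-!
# S3414, case (B): the kill lemma (helper115)

* `no_sharp` : a normal subgroup `W` of `S y` with `W_x ≤ K x` for the neighbours `x` of `y` lies in `K y`;
* `kill_core`, `kill` : in case (B) no nontrivial element of a normal subgroup `X ≤ L' y` of `L y` fixes two neighbours
  of `y`.
-/

set_option autoImplicit false
set_option linter.unusedSectionVars false

namespace Cfsg.Agent.H115.Tits

open Cfsg.Agent.H873.Tits Subgroup MulAction

universe u v

variable {G : Type u} [Group G] {V : Type v} [MulAction G V] {P : Pol G V}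

/-! ## basic facts -/

theorem K_conj (P : Pol G V) (g : G) {v : V} {k : G} (hk : k ∈ P.K v) : g * k * g⁻¹ ∈ P.K (g • v) := by
  refine ⟨by rw [mul_smul, mul_smul, inv_smul_smul, hk.1], fun w hw => ?_⟩
  have h1 : P.adj v (g⁻¹ • w) := by
    rw [← P.adj_smul_iff g, smul_inv_smul]
    exact hw
  rw [mul_smul, mul_smul, hk.2 _ h1, smul_inv_smul]

theorem K_conj' (P : Pol G V) {g : G} {v : V} (hg : g • v = v) {k : G} (hk : k ∈ P.K v) : g * k * g⁻¹ ∈ P.K v := by
  have := K_conj P g hk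
  rwa [hg] at this

theorem inv_fix {g : G} {v : V} (hg : g • v = v) : g⁻¹ • v = v := inv_smul_eq_iff.2 hg.symm

theorem smul_isPath (P : Pol G V) (g : G) {k : ℕ} {p : ℕ → V} (h : IsPath P.adj k p) :
    IsPath P.adj k fun i => g • p i :=
  ⟨fun i hi => P.smul_adj g (h.1 i hi), fun i hi h' => h.2 i hi ((smul_left_cancel_iff g).1 h')⟩

theorem opp_smul (P : Pol G V) (g : G) {v w : V} (h : P.Opp v w) : P.Opp (g • v) (g • w) := by
  obtain ⟨p, hp, rfl, rfl⟩ := h
  exact ⟨_, smul_isPath P g hp, rfl, rfl⟩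

theorem adj_smul_of_fix (P : Pol G V) {g : G} {v w : V} (hg : g • v = v) (h : P.adj v w) : P.adj v (g • w) := by
  have := P.smul_adj g h
  rwa [hg] at this

/-- `S y` is transitive on the vertices opposite `y` -/
theorem exists_opp_map (P : Pol G V) {y a b : V} (ha : P.Opp y a) (hb : P.Opp y b) : ∃ g : G, g • y = y ∧ g • a = b := by
  obtain ⟨p, hp, h1, rfl⟩ := ha
  obtain ⟨p', hp', h1', rfl⟩ := hb
  obtain ⟨g, hg⟩ := P.trans (Nat.le_succ _) hp hp' (by rw [h1, h1'])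
  refine ⟨g, ?_, hg _ le_rfl⟩
  have := hg 0 (Nat.zero_le _)
  rwa [h1, h1'] at this

/-- there are two neighbours different from a given vertex -/
theorem exists_two (P : Pol G V) (z y : V) : ∃ u u', P.adj z u ∧ P.adj z u' ∧ u ≠ y ∧ u' ≠ y ∧ u ≠ u' := by
  by_contra hno
  push Not at hno
  have h3 : 3 ≤ Nat.card {w : V // P.adj z w} := by
    rw [P.card_nb]
    have := P.two_le (P.tp z)
    omega
  have hf : Finite {w : V // P.adj z w} := Nat.finite_of_card_ne_zero (by omega)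
  have := Fintype.ofFinite {w : V // P.adj z w}
  rw [Nat.card_eq_fintype_card] at h3
  obtain ⟨a, b, c, hab, hac, hbc⟩ := Fintype.two_lt_card_iff.1 (lt_of_lt_of_le (by norm_num) h3)
  have h4 : ∀ {p q : {w : V // P.adj z w}}, p ≠ q → (p : V) ≠ q := fun h h' => h (Subtype.ext h')
  by_cases ha : (a : V) = y
  · exact h4 hbc (hno b c b.2 c.2 (fun h => h4 hab (ha.trans h.symm)) (fun h => h4 hac (ha.trans h.symm)))
  · by_cases hb : (b : V) = y
    · exact h4 hac (hno a c a.2 c.2 ha (fun h => h4 hbc (hb.trans h.symm)))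
    · exact h4 hab (hno a b a.2 b.2 ha hb)

/-- the middle vertex of a path of length two is unique -/
theorem mid_unique (P : Pol G V) {y x x' w : V} (h1 : P.adj y x) (h2 : P.adj x w) (hwy : w ≠ y) (h1' : P.adj y x')
    (h2' : P.adj x' w) : x = x' := by
  have hp : ∀ {x : V}, P.adj y x → P.adj x w →
      IsPath P.adj 2 (fun i => if i = 0 then y else if i = 1 then x else w) := by
    intro x h1 h2
    refine ⟨fun i hi => ?_, fun i hi => ?_⟩
    · have : i = 0 ∨ i = 1 := by omega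
      rcases this with rfl | rfl
      · simpa using h1
      · simpa using h2
    · have : i = 0 := by omega
      subst this
      simpa using hwy
  have hn := P.hn
  have := (P.path_unique (hp h1 h2) (hp h1' h2') (by simp) (by simp) (by omega)).2 1 (by norm_num)
  simpa using this

/-- an element fixing `y` and a vertex at distance two fixes the middle vertex -/
theorem mid_fix (P : Pol G V) {y x w : V} (h1 : P.adj y x) (h2 : P.adj x w) (hwy : w ≠ y) {g : G} (hy : g • y = y)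
    (hw : g • w = w) : g • x = x := by
  refine (mid_unique P h1 h2 hwy ?_ ?_).symm
  · exact adj_smul_of_fix P hy h1
  · have := P.smul_adj g h2
    rwa [hw] at this

theorem Thru_adj {y x w y' : V} (hn : 2 ≤ P.n) (h : P.Thru y x w y') : P.adj x w ∧ w ≠ y := by
  obtain ⟨p, hp, rfl, rfl, rfl, -⟩ := h
  exact ⟨hp.1 1 (by omega), hp.2 0 (by omega)⟩

theorem two_le_n (P : Pol G V) : 2 ≤ P.n := by
  have := P.hn
  omega

/-! ## sharply transitive normal subgroups -/

/-- **no sharp normal subgroups** -/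
theorem no_sharp (F : Facts P) {y : V} (W : Subgroup G) (hWS : W ≤ P.S y) (hn : ∀ g ∈ P.S y, ∀ a ∈ W, g * a * g⁻¹ ∈ W)
    (hK : ∀ x, P.adj y x → W ⊓ P.S x ≤ P.K x) : W ≤ P.K y := by
  intro h0 hh0
  by_contra hne
  have hy0 : h0 • y = y := hWS hh0
  obtain ⟨x, hyx, hx⟩ : ∃ x, P.adj y x ∧ h0 • x ≠ x := by
    by_contra hno
    push Not at hno
    exact hne ⟨hy0, hno⟩
  have hyz : P.adj y (h0 • x) := adj_smul_of_fix P hy0 hyx
  obtain ⟨w, -, hxw, -, hwy, -⟩ := exists_two P x y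
  have hzu : P.adj (h0 • x) (h0 • w) := P.smul_adj h0 hxw
  have huy : h0 • w ≠ y := by
    intro h
    exact hwy ((smul_left_cancel_iff h0).1 (h.trans hy0.symm))
  obtain ⟨u', hzu', hu'y, hu'⟩ : ∃ u', P.adj (h0 • x) u' ∧ u' ≠ y ∧ u' ≠ h0 • w := by
    obtain ⟨a, b, ha, hb, hay, hby, hab⟩ := exists_two P (h0 • x) y
    by_cases h : a = h0 • w
    · exact ⟨b, hb, hby, fun h' => hab (h.trans h'.symm)⟩
    · exact ⟨a, ha, hay, h⟩
  obtain ⟨g, hg, hgw, hgu⟩ := F.pair_trans (P.symm hyx) (P.symm hyz) (Ne.symm hx) hxw hwy hzu huy hxw hwy hzu' hu'y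
  have hgx : g • x = x := hg.1.1
  have hgy : g • y = y := hg.1.2
  have hgz : g • h0 • x = h0 • x := hg.2
  have h1 : h0⁻¹ * (g * h0 * g⁻¹) ∈ W := mul_mem (inv_mem hh0) (hn g hgy _ hh0)
  have h2 : (h0⁻¹ * (g * h0 * g⁻¹)) • x = x := by
    rw [mul_smul, mul_smul, mul_smul, inv_fix hgx, hgz, inv_smul_smul]
  have h3 := (hK x hyx ⟨h1, h2⟩).2 w hxw
  rw [mul_smul, mul_smul, mul_smul, inv_fix hgw, hgu, inv_smul_eq_iff] at h3
  exact hu' h3

/-! ## case (B) -/

section CaseB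

variable {b : Bool} {y : V}

/-- `E` does not depend on the neighbour -/
theorem E_le (hB : CaseB P b) (hy : P.tp y = b) {x z : V} (hx : P.adj y x) (hz : P.adj y z) :
    P.K x ⊓ P.K y ≤ P.K z ⊓ P.K y :=
  fun _ h => ⟨hB.ball hy (P.symm hx) (P.symm hz) h, h.2⟩

/-- `E` is normal in `S y` -/
theorem E_conj (hB : CaseB P b) (hy : P.tp y = b) {x : V} (hx : P.adj y x) {g : G} (hg : g • y = y) {k : G}
    (hk : k ∈ P.K x ⊓ P.K y) : g * k * g⁻¹ ∈ P.K x ⊓ P.K y :=
  E_le hB hy (adj_smul_of_fix P hg hx) hx ⟨K_conj P g hk.1, K_conj' P hg hk.2⟩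

/-- the first step of the kill lemma -/
theorem kill_step (F : Facts P) (hB : CaseB P b) (hy : P.tp y = b) {T : Subgroup G} (hTS : T ≤ P.S y)
    (hTn : ∀ g ∈ P.S y, ∀ a ∈ T, g * a * g⁻¹ ∈ T)
    (hTd : ∀ g ∈ T, ∀ y', P.Opp y y' → ∃ m ∈ T, m • y' = y' ∧ g * m⁻¹ ∈ P.K y)
    {x z w : V} (hx : P.adj y x) (hz : P.adj y z) (hxz : x ≠ z) (hw : P.adj x w) (hwy : w ≠ y) {g : G} (hg : g ∈ T)
    (hgw : g • w = w) (hgz : g • z = z) : g ∈ P.K z := by
  obtain ⟨y', hopp, hthru⟩ := F.proj_opp hx hw hwy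
  obtain ⟨u0, hu0⟩ := F.proj_exists hopp hz
  obtain ⟨hzu0, hu0y⟩ := Thru_adj (two_le_n P) hu0
  -- such elements fix `u0`
  have key : ∀ g ∈ T, g • w = w → g • z = z → g • u0 = u0 := by
    intro g hg hgw hgz
    have hgy : g • y = y := hTS hg
    obtain ⟨m, hm, hmy', hk⟩ := hTd g hg y' hopp
    have hmy : m • y = y := hTS hm
    have hgx : g • x = x := mid_fix P hx hw hwy hgy hgw
    have hm_of : ∀ {a : V}, P.adj y a → g • a = a → m • a = a := by
      intro a ha hga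
      have h1 := hk.2 a ha
      rw [mul_smul] at h1
      have h2 : m⁻¹ • a = g⁻¹ • a := by
        rw [← inv_smul_smul g (m⁻¹ • a), h1]
      rw [inv_fix hga] at h2
      exact (inv_smul_eq_iff.1 h2).symm
    have hmx := hm_of hx hgx
    have hmz := hm_of hz hgz
    have hmw : m • w = w := F.proj_fix hthru hmy hmx hmy'
    have hmu : m • u0 = u0 := F.proj_fix hu0 hmy hmz hmy'
    have hkw : (g * m⁻¹) • w = w := by rw [mul_smul, inv_fix hmw, hgw]
    have hkx : g * m⁻¹ ∈ P.K x := hB.semireg hy (P.symm hx) (P.symm hw) hwy ⟨hk, hkw⟩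
    have hkz : g * m⁻¹ ∈ P.K z := hB.ball hy (P.symm hx) (P.symm hz) ⟨hkx, hk⟩
    have h1 := hkz.2 u0 hzu0
    rwa [mul_smul, inv_fix hmu] at h1
  refine ⟨hgz, fun u hu => ?_⟩
  by_cases huy : u = y
  · rw [huy]
    exact hTS hg
  obtain ⟨a, ha, haw, hau⟩ := F.pair_trans (P.symm hx) (P.symm hz) hxz hw hwy hzu0 hu0y hw hwy hu huy
  have hay : a • y = y := ha.1.2
  have haz : a • z = z := ha.2
  have h1 : a⁻¹ * g * a⁻¹⁻¹ ∈ T := hTn a⁻¹ (inv_fix hay) g hg
  rw [inv_inv] at h1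
  have h2 := key _ h1 (by rw [mul_smul, mul_smul, haw, hgw, inv_fix haw])
    (by rw [mul_smul, mul_smul, haz, hgz, inv_fix haz])
  rwa [mul_smul, mul_smul, hau, inv_smul_eq_iff, hau] at h2

/-- the subgroup of the elements of `S y` which agree modulo `E` with elements of `S y'`, for all `y'` opposite `y` -/
def nearSub (P : Pol G V) (y : V) (E : Subgroup G) (hE : ∀ g : G, g • y = y → ∀ k ∈ E, g * k * g⁻¹ ∈ E) : Subgroup G where
  carrier := {g | g • y = y ∧ ∀ y', P.Opp y y' → ∃ m : G, m • y = y ∧ m • y' = y' ∧ g * m⁻¹ ∈ E}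
  mul_mem' := by
    rintro a b ⟨ha, ha'⟩ ⟨hb, hb'⟩
    refine ⟨by rw [mul_smul, hb, ha], fun y' hy' => ?_⟩
    obtain ⟨m, hm, hm', h1⟩ := ha' y' hy'
    obtain ⟨l, hl, hl', h2⟩ := hb' y' hy'
    refine ⟨m * l, by rw [mul_smul, hl, hm], by rw [mul_smul, hl', hm'], ?_⟩
    have h3 := mul_mem h1 (hE m hm _ h2)
    have h4 : a * m⁻¹ * (m * (b * l⁻¹) * m⁻¹) = a * b * (m * l)⁻¹ := by group
    rwa [h4] at h3
  one_mem' := ⟨one_smul _ _, fun y' _ => ⟨1, one_smul _ _, one_smul _ _, by rw [inv_one, mul_one]; exact one_mem E⟩⟩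
  inv_mem' := by
    rintro a ⟨ha, ha'⟩
    refine ⟨inv_fix ha, fun y' hy' => ?_⟩
    obtain ⟨m, hm, hm', h1⟩ := ha' y' hy'
    refine ⟨m⁻¹, inv_fix hm, inv_fix hm', ?_⟩
    have h2 := hE m⁻¹ (inv_fix hm) _ (inv_mem h1)
    have h3 : m⁻¹ * (a * m⁻¹)⁻¹ * m⁻¹⁻¹ = a⁻¹ * m⁻¹⁻¹ := by group
    rwa [h3] at h2

/-- **Kill lemma, core form** -/
theorem kill_core (F : Facts P) (hB : CaseB P b) (hy : P.tp y = b) {T : Subgroup G} (hTS : T ≤ P.S y)
    (hTn : ∀ g ∈ P.S y, ∀ a ∈ T, g * a * g⁻¹ ∈ T)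
    (hTd : ∀ g ∈ T, ∀ y', P.Opp y y' → ∃ m ∈ T, m • y' = y' ∧ g * m⁻¹ ∈ P.K y)
    {x z : V} (hx : P.adj y x) (hz : P.adj y z) (hxz : x ≠ z) {g : G} (hg : g ∈ T) (hgx : g • x = x) (hgz : g • z = z) :
    g ∈ P.K y := by
  -- both steps
  have step : ∀ {w : V}, P.adj x w → w ≠ y → ∀ g ∈ T, g • w = w → g • z = z → g ∈ P.K x := by
    intro w hw hwy g hg hgw hgz
    have h1 := kill_step F hB hy hTS hTn hTd hx hz hxz hw hwy hg hgw hgz
    obtain ⟨u, -, hzu, -, huy, -⟩ := exists_two P z y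
    exact kill_step F hB hy hTS hTn hTd hz hx hxz.symm hzu huy hg (h1.2 u hzu)
      (mid_fix P hx hw hwy (hTS hg) hgw)
  set E := P.K x ⊓ P.K y with hE
  have hEn : ∀ g : G, g • y = y → ∀ k ∈ E, g * k * g⁻¹ ∈ E := fun g hg k hk => E_conj hB hy hx hg hk
  have hW := no_sharp F (nearSub P y E hEn) (fun g hg => hg.1) ?_ ?_
  · -- replace `g` by an element of `S y'`
    obtain ⟨y', hopp⟩ := F.exists_opp y
    obtain ⟨m, hm, hmy', hk⟩ := hTd g hg y' hopp
    have hmy : m • y = y := hTS hm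
    have hm_of : ∀ {a : V}, P.adj y a → g • a = a → m • a = a := by
      intro a ha hga
      have h1 := hk.2 a ha
      rw [mul_smul] at h1
      have h2 : m⁻¹ • a = g⁻¹ • a := by
        rw [← inv_smul_smul g (m⁻¹ • a), h1]
      rw [inv_fix hga] at h2
      exact (inv_smul_eq_iff.1 h2).symm
    have hmx := hm_of hx hgx
    have hmz := hm_of hz hgz
    obtain ⟨w, hw⟩ := F.proj_exists hopp hx
    obtain ⟨hxw, hwy⟩ := Thru_adj (two_le_n P) hw
    have hmw : m • w = w := F.proj_fix hw hmy hmx hmy'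
    have hmK : m ∈ P.K x := step hxw hwy m hm hmw hmz
    -- `m` lies in the subgroup
    have hmW : m ∈ nearSub P y E hEn := by
      refine ⟨hmy, fun y2 hopp2 => ?_⟩
      obtain ⟨l, hl, hly2, hk2⟩ := hTd m hm y2 hopp2
      have hly : l • y = y := hTS hl
      obtain ⟨w2, hw2⟩ := F.proj_exists hopp2 hx
      obtain ⟨hxw2, hw2y⟩ := Thru_adj (two_le_n P) hw2
      have hlx : l • x = x := by
        have h1 := hk2.2 x hx
        rw [mul_smul] at h1
        have h2 : l⁻¹ • x = m⁻¹ • x := by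
          rw [← inv_smul_smul m (l⁻¹ • x), h1]
        rw [inv_fix hmx] at h2
        exact (inv_smul_eq_iff.1 h2).symm
      have hlw2 : l • w2 = w2 := F.proj_fix hw2 hly hlx hly2
      refine ⟨l, hly, hly2, ?_, hk2⟩
      refine hB.semireg hy (P.symm hx) (P.symm hxw2) hw2y (mem_inf.2 ⟨hk2, mem_stabilizer_iff.2 ?_⟩)
      rw [mul_smul, inv_fix hlw2, hmK.2 w2 hxw2]
    have h3 := mul_mem hk (hW hmW)
    rwa [inv_mul_cancel_right] at h3
  · -- normality
    rintro g hg a ⟨ha, ha'⟩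
    have hgy : g • y = y := hg
    refine ⟨by rw [mul_smul, mul_smul, inv_fix hgy, ha, hgy], fun y2 hopp2 => ?_⟩
    have h1 : P.Opp y (g⁻¹ • y2) := by
      have := opp_smul P g⁻¹ hopp2
      rwa [inv_fix hgy] at this
    obtain ⟨m, hm, hm', h2⟩ := ha' _ h1
    refine ⟨g * m * g⁻¹, by rw [mul_smul, mul_smul, inv_fix hgy, hm, hgy], ?_, ?_⟩
    · rw [mul_smul, mul_smul, hm', smul_inv_smul]
    · have h3 := hEn g hgy _ h2
      have h4 : g * (a * m⁻¹) * g⁻¹ = g * a * g⁻¹ * (g * m * g⁻¹)⁻¹ := by group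
      rwa [h4] at h3
  · -- the stabilizer of a neighbour
    rintro a ha g ⟨⟨hgy, hg'⟩, hga⟩
    refine ⟨hga, fun w hw => ?_⟩
    by_cases hwy : w = y
    · rw [hwy]
      exact hgy
    obtain ⟨y2, hopp2, hthru⟩ := F.proj_opp ha hw hwy
    obtain ⟨m, hm, hm', h2⟩ := hg' y2 hopp2
    have h3 : g * m⁻¹ ∈ P.K a ⊓ P.K y := E_le hB hy hx ha h2
    have hma : m • a = a := by
      have h1 := h3.2.2 a ha
      rw [mul_smul] at h1
      have h4 : m⁻¹ • a = g⁻¹ • a := by
        rw [← inv_smul_smul g (m⁻¹ • a), h1]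
      rw [inv_fix hga] at h4
      exact (inv_smul_eq_iff.1 h4).symm
    have hmw : m • w = w := F.proj_fix hthru hm hma hm'
    have h5 := h3.1.2 w hw
    rwa [mul_smul, inv_fix hmw] at h5

/-! ### the permutation form -/

/-- the elements of `S y` inducing an element of `X` on the neighbours -/
def pre (P : Pol G V) (y : V) (X : Subgroup (Equiv.Perm {w : V // P.adj y w})) : Subgroup G :=
  (X.comap (P.toPerm y)).map (P.S y).subtype

theorem mem_pre {X : Subgroup (Equiv.Perm {w : V // P.adj y w})} {g : G} :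
    g ∈ pre P y X ↔ ∃ hg : g ∈ P.S y, P.toPerm y ⟨g, hg⟩ ∈ X := by
  constructor
  · rintro ⟨⟨g, hg⟩, h1, rfl⟩
    exact ⟨hg, h1⟩
  · rintro ⟨hg, h1⟩
    exact ⟨⟨g, hg⟩, h1, rfl⟩

theorem pre_le (X : Subgroup (Equiv.Perm {w : V // P.adj y w})) : pre P y X ≤ P.S y :=
  fun _ h => (mem_pre.1 h).1

/-- the kernel of `toPerm` -/
theorem toPerm_eq_iff {g h : P.S y} : P.toPerm y g = P.toPerm y h ↔ (g : G) * (h : G)⁻¹ ∈ P.K y := by
  constructor
  · intro h1
    refine ⟨?_, fun w hw => ?_⟩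
    · rw [mul_smul, inv_fix (show (h : G) • y = y from h.2)]
      exact g.2
    · have hw' : P.adj y ((h : G)⁻¹ • w) := adj_smul_of_fix P (inv_fix (show (h : G) • y = y from h.2)) hw
      have h2 := congrArg (fun σ : Equiv.Perm {w : V // P.adj y w} => ((σ ⟨_, hw'⟩ : {w : V // P.adj y w}) : V)) h1
      simp only [Pol.toPerm_apply] at h2
      rw [mul_smul, h2, smul_inv_smul]
  · intro h1
    ext ⟨w, hw⟩
    rw [Pol.toPerm_apply, Pol.toPerm_apply]
    have h2 := h1.2 _ (adj_smul_of_fix P (show (h : G) • y = y from h.2) hw)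
    rwa [mul_smul, inv_smul_smul] at h2

theorem pre_conj {X : Subgroup (Equiv.Perm {w : V // P.adj y w})} (hXL : X ≤ P.L y) (hn : (X.subgroupOf (P.L y)).Normal)
    {g a : G} (hg : g ∈ P.S y) (ha : a ∈ pre P y X) : g * a * g⁻¹ ∈ pre P y X := by
  obtain ⟨ha1, ha2⟩ := mem_pre.1 ha
  refine mem_pre.2 ⟨mul_mem (mul_mem hg ha1) (inv_mem hg), ?_⟩
  have h1 : P.toPerm y ⟨g, hg⟩ ∈ P.L y := ⟨⟨g, hg⟩, mem_subgroupOf.2 hg, rfl⟩
  have h2 := hn.conj_mem ⟨P.toPerm y ⟨a, ha1⟩, hXL ha2⟩ (mem_subgroupOf.2 ha2) ⟨_, h1⟩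
  rw [mem_subgroupOf] at h2
  have h3 : P.toPerm y ⟨g * a * g⁻¹, mul_mem (mul_mem hg ha1) (inv_mem hg)⟩ =
      P.toPerm y ⟨g, hg⟩ * P.toPerm y ⟨a, ha1⟩ * (P.toPerm y ⟨g, hg⟩)⁻¹ := by
    rw [← map_mul, ← map_inv, ← map_mul]
    rfl
  rw [h3]
  exact h2

theorem L'_le (P : Pol G V) (y y' : V) : P.L' y y' ≤ P.L y := by
  rintro _ ⟨g, hg, rfl⟩
  exact ⟨g, mem_subgroupOf.2 (mem_subgroupOf.1 hg).1, rfl⟩

/-- **Kill lemma** : in case (B) a normal subgroup `X ≤ L' y y'` of `L y` acts semiregularly on the pairs of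
neighbours of `y` -/
theorem kill (F : Facts P) (hB : CaseB P b) (hy : P.tp y = b) {y' : V} (hopp : P.Opp y y')
    (X : Subgroup (Equiv.Perm {w : V // P.adj y w})) (hX : X ≤ P.L' y y') (hn : (X.subgroupOf (P.L y)).Normal)
    {x z : {w : V // P.adj y w}} (hxz : x ≠ z) {σ : Equiv.Perm {w : V // P.adj y w}} (hσ : σ ∈ X) (hσx : σ x = x)
    (hσz : σ z = z) : σ = 1 := by
  have hXL : X ≤ P.L y := hX.trans (L'_le P y y')
  obtain ⟨⟨g, hg⟩, -, rfl⟩ := hXL hσ
  have h1 := kill_core F hB hy (T := pre P y X) (pre_le X) (fun g hg a ha => pre_conj hXL hn hg ha) ?_ x.2 z.2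
    (fun h => hxz (Subtype.ext h)) (g := g) (mem_pre.2 ⟨hg, hσ⟩) ?_ ?_
  · rw [← map_one (P.toPerm y), toPerm_eq_iff]
    rw [OneMemClass.coe_one, inv_one, mul_one]
    exact h1
  · intro g hg y2 hopp2
    obtain ⟨h, hhy, hhy'⟩ := exists_opp_map P hopp hopp2
    have h2 : h⁻¹ * g * h⁻¹⁻¹ ∈ pre P y X := pre_conj hXL hn (inv_fix hhy) hg
    rw [inv_inv] at h2
    obtain ⟨h3, h4⟩ := mem_pre.1 h2
    obtain ⟨⟨m, hm⟩, hm', h5⟩ := hX h4
    obtain ⟨-, hmy'⟩ := mem_subgroupOf.1 hm'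
    have hmy' : m • y' = y' := hmy'
    have h6 : m ∈ pre P y X := mem_pre.2 ⟨hm, by rw [h5]; exact h4⟩
    refine ⟨h * m * h⁻¹, pre_conj hXL hn hhy h6, ?_, ?_⟩
    · rw [mul_smul, mul_smul, ← hhy', inv_smul_smul, hmy']
    · have h7 := K_conj' P hhy (toPerm_eq_iff.1 h5.symm)
      have h8 : h * (h⁻¹ * g * h * m⁻¹) * h⁻¹ = g * (h * m * h⁻¹)⁻¹ := by group
      rwa [h8] at h7
  · exact congrArg Subtype.val hσx
  · exact congrArg Subtype.val hσz

/-! ### the complement lemma -/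

/-- the centraliser of `K y / E` in `S y` -/
def cenK (P : Pol G V) (y : V) (E : Subgroup G) : Subgroup G where
  carrier := {g | g • y = y ∧ ∀ k ∈ P.K y, g * k * g⁻¹ * k⁻¹ ∈ E}
  mul_mem' := by
    rintro a b ⟨ha, ha'⟩ ⟨hb, hb'⟩
    refine ⟨by rw [mul_smul, hb, ha], fun k hk => ?_⟩
    have h1 := ha' _ (K_conj' P hb hk)
    have h2 := hb' k hk
    have h3 : a * b * k * (a * b)⁻¹ * k⁻¹ = (a * (b * k * b⁻¹) * a⁻¹ * (b * k * b⁻¹)⁻¹) * (b * k * b⁻¹ * k⁻¹) := by
      group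
    rw [h3]
    exact mul_mem h1 h2
  one_mem' := ⟨one_smul _ _, fun k _ => by simp⟩
  inv_mem' := by
    rintro a ⟨ha, ha'⟩
    refine ⟨inv_fix ha, fun k hk => ?_⟩
    have h1 := ha' _ (K_conj' P (inv_fix ha) hk)
    have h2 : a⁻¹ * k * a⁻¹⁻¹ * k⁻¹ = (a * (a⁻¹ * k * a⁻¹⁻¹) * a⁻¹ * (a⁻¹ * k * a⁻¹⁻¹)⁻¹)⁻¹ := by group
    rw [h2]
    exact inv_mem h1

/-- a coprime combination -/
theorem mem_of_coprime {H : Subgroup G} {g : G} {m n : ℕ} (hc : m.Coprime n) (hm : g ^ m ∈ H) (hn : g ^ n ∈ H) :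
    g ∈ H := by
  obtain ⟨u, v, huv⟩ := (Nat.isCoprime_iff_coprime).2 hc
  have h1 : g = (g ^ m) ^ u * (g ^ n) ^ v := by
    rw [← zpow_natCast, ← zpow_natCast, ← zpow_mul, ← zpow_mul, ← zpow_add, mul_comm (m : ℤ), mul_comm (n : ℤ), huv,
      zpow_one]
  rw [h1]
  exact mul_mem (zpow_mem hm u) (zpow_mem hn v)

/-- a commutator which is central and has two coprime exponents -/
theorem commute_of_coprime {Q : Type*} [Group Q] {a b z : Q} (h : a * b = z * (b * a)) (hza : Commute z a)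
    {m n : ℕ} (hc : m.Coprime n) (hm : Commute (a ^ m) b) (hn : z ^ n = 1) : Commute a b := by
  have h1 : b * a * b⁻¹ = z⁻¹ * a := by
    have h2 : z⁻¹ * (a * b) = b * a := by rw [h, inv_mul_cancel_left]
    rw [← h2]
    group
  have h2 : b * a ^ m * b⁻¹ = (z⁻¹ * a) ^ m := by rw [← h1, conj_pow]
  rw [(hza.inv_left).mul_pow, ← hm.eq, mul_inv_cancel_right] at h2
  have h3 : (z⁻¹) ^ m = 1 := by
    have := h2
    rwa [eq_comm, mul_eq_right] at this
  have h4 : z ^ m = 1 := by rwa [inv_pow, inv_eq_one] at h3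
  have h5 : z = 1 := by
    have := mem_of_coprime (H := (⊥ : Subgroup Q)) hc (g := z) (by rw [h4]; exact one_mem _) (by rw [hn]; exact one_mem _)
    rwa [mem_bot] at this
  rw [h5, one_mul] at h
  exact h

/-- **Complement lemma** -/
theorem complement (F : Facts P) (hB : CaseB P b) (hy : P.tp y = b) {x : V} (hx : P.adj y x) (hne : ¬ P.K x ≤ P.K y)
    (haff : Aff (P.L y)) (hc : (P.q (P.tp y) + 1).Coprime ((P.K x ⊓ P.K y).relIndex (P.K y))) : False := by
  obtain ⟨W₀, hWL, hWn, hWc, hWt, hWs⟩ := haff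
  set E := P.K x ⊓ P.K y with hE
  have hEn : ∀ g : G, g • y = y → ∀ k ∈ E, g * k * g⁻¹ ∈ E := fun g hg k hk => E_conj hB hy hx hg hk
  set C := cenK P y E with hC
  set V0 := pre P y W₀ with hV0
  set N := P.q (P.tp y) + 1 with hN
  set c := E.relIndex (P.K y) with hcdef
  have hV0n : ∀ g : G, g • y = y → ∀ a ∈ V0, g * a * g⁻¹ ∈ V0 := fun g hg a ha => pre_conj hWL hWn hg ha
  have hCn : ∀ g : G, g • y = y → ∀ a ∈ C, g * a * g⁻¹ ∈ C := by
    rintro g hg a ⟨ha, ha'⟩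
    refine ⟨by rw [mul_smul, mul_smul, inv_fix hg, ha, hg], fun k hk => ?_⟩
    have h1 := hEn g hg _ (ha' _ (K_conj' P (inv_fix hg) hk))
    have h2 : g * (a * (g⁻¹ * k * g⁻¹⁻¹) * a⁻¹ * (g⁻¹ * k * g⁻¹⁻¹)⁻¹) * g⁻¹ =
        g * a * g⁻¹ * k * (g * a * g⁻¹)⁻¹ * k⁻¹ := by group
    rwa [h2] at h1
  have hKC : P.K x ≤ C := by
    intro g hg
    have hgy : g • y = y := hg.2 y (P.symm hx)
    refine ⟨hgy, fun k hk => ?_⟩
    refine mem_inf.2 ⟨?_, mul_mem (K_conj' P hgy hk) (inv_mem hk)⟩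
    have h1 := K_conj' P (hk.2 x hx) (inv_mem hg)
    have h2 := mul_mem hg h1
    have h3 : g * (k * g⁻¹ * k⁻¹) = g * k * g⁻¹ * k⁻¹ := by group
    rwa [h3] at h2
  -- powers of the elements of `K y`
  have hKc : ∀ k ∈ P.K y, k ^ c ∈ E := by
    intro k hk
    have : (E.subgroupOf (P.K y)).Normal := by
      refine ⟨fun n hn g => ?_⟩
      rw [mem_subgroupOf] at hn ⊢
      exact hEn g g.2.1 n hn
    have h1 := Subgroup.pow_index_mem (E.subgroupOf (P.K y)) ⟨k, hk⟩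
    rw [mem_subgroupOf] at h1
    exact h1
  -- `V0`
  have hV0y : ∀ g ∈ V0, g • y = y := fun g hg => (mem_pre.1 hg).1
  have hV0f : ∀ g ∈ V0, ∀ a, P.adj y a → g • a = a → g ∈ P.K y := by
    intro g hg a ha hga
    obtain ⟨hgS, hgW⟩ := mem_pre.1 hg
    have h1 : (⟨P.toPerm y ⟨g, hgS⟩, hgW⟩ : W₀) ∈ stabilizer W₀ (⟨a, ha⟩ : {w : V // P.adj y w}) :=
      mem_stabilizer_iff.2 (Subtype.ext hga)
    rw [hWs, mem_bot] at h1
    have h2 : P.toPerm y ⟨g, hgS⟩ = P.toPerm y 1 := by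
      rw [map_one]
      exact congrArg Subtype.val h1
    rw [toPerm_eq_iff, OneMemClass.coe_one, inv_one, mul_one] at h2
    exact h2
  have hV0t : ∀ a a', P.adj y a → P.adj y a' → ∃ g ∈ V0, g • a = a' := by
    intro a a' ha ha'
    obtain ⟨w, hw⟩ := hWt.exists_smul_eq (⟨a, ha⟩ : {w : V // P.adj y w}) ⟨a', ha'⟩
    obtain ⟨⟨g, hg⟩, -, h1⟩ := hWL w.2
    refine ⟨g, mem_pre.2 ⟨hg, by rw [h1]; exact w.2⟩, ?_⟩
    have h2 : P.toPerm y ⟨g, hg⟩ ⟨a, ha⟩ = ⟨a', ha'⟩ := by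
      rw [h1]
      exact hw
    exact congrArg Subtype.val h2
  have hV0c : ∀ g ∈ V0, ∀ h ∈ V0, g * h * (h * g)⁻¹ ∈ P.K y := by
    intro g hg h hh
    obtain ⟨hgS, hgW⟩ := mem_pre.1 hg
    obtain ⟨hhS, hhW⟩ := mem_pre.1 hh
    have h1 : P.toPerm y (⟨g, hgS⟩ * ⟨h, hhS⟩) = P.toPerm y (⟨h, hhS⟩ * ⟨g, hgS⟩) := by
      rw [map_mul, map_mul]
      exact congrArg Subtype.val (hWc.is_comm.comm (⟨_, hgW⟩ : W₀) ⟨_, hhW⟩)
    exact toPerm_eq_iff.1 h1
  have hWcard : Nat.card W₀ = N := by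
    rw [hN, ← P.card_nb y]
    have h1 : Function.Bijective fun w : W₀ => w • (⟨x, hx⟩ : {w : V // P.adj y w}) := by
      constructor
      · intro w w' h
        have h2 : w'⁻¹ * w ∈ stabilizer W₀ (⟨x, hx⟩ : {w : V // P.adj y w}) := by
          rw [mem_stabilizer_iff, mul_smul, inv_smul_eq_iff]
          exact h
        rw [hWs, mem_bot, inv_mul_eq_one] at h2
        exact h2.symm
      · intro a
        exact hWt.exists_smul_eq _ a
    exact Nat.card_congr (Equiv.ofBijective _ h1)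
  have hV0N : ∀ g ∈ V0, g ^ N ∈ P.K y := by
    intro g hg
    obtain ⟨hgS, hgW⟩ := mem_pre.1 hg
    have h1 : (⟨P.toPerm y ⟨g, hgS⟩, hgW⟩ : W₀) ^ N = 1 := by rw [← hWcard]; exact pow_card_eq_one'
    have h2 : P.toPerm y (⟨g, hgS⟩ ^ N) = P.toPerm y 1 := by
      rw [map_pow, map_one]
      exact congrArg Subtype.val h1
    rw [toPerm_eq_iff, OneMemClass.coe_one, inv_one, mul_one] at h2
    exact h2
  -- the group modulo `E`
  have hEnor : (E.subgroupOf (P.S y)).Normal := by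
    refine ⟨fun n hn g => ?_⟩
    rw [mem_subgroupOf] at hn ⊢
    exact hEn g g.2 n hn
  let π : P.S y →* (P.S y) ⧸ E.subgroupOf (P.S y) := QuotientGroup.mk' _
  have hπ1 : ∀ g : P.S y, π g = 1 ↔ (g : G) ∈ E := by
    intro g
    rw [QuotientGroup.mk'_apply, QuotientGroup.eq_one_iff, mem_subgroupOf]
  have hπc : ∀ g h : P.S y, (g : G) ∈ C → (h : G) ∈ P.K y → Commute (π h) (π g) := by
    intro g h hg hh
    have h1 : π (g * h * g⁻¹ * h⁻¹) = 1 := (hπ1 _).2 (hg.2 h hh)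
    rw [map_mul, map_mul, map_mul, map_inv, map_inv, mul_inv_eq_one, mul_inv_eq_iff_eq_mul] at h1
    exact h1.symm
  have hcomm : ∀ g h : P.S y, (g : G) ∈ V0 ⊓ C → (h : G) ∈ V0 ⊓ C → Commute (π g) (π h) := by
    intro g h hg hh
    obtain ⟨k, hk⟩ : ∃ k : P.S y, k = g * h * (h * g)⁻¹ := ⟨_, rfl⟩
    have hkK : (k : G) ∈ P.K y := by
      rw [hk]
      exact hV0c g hg.1 h hh.1
    refine commute_of_coprime (z := π k) ?_ (hπc g k hg.2 hkK) hc ?_ ?_
    · rw [hk, ← map_mul, ← map_mul, ← map_mul, inv_mul_cancel_right]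
    · rw [← map_pow]
      exact hπc h (g ^ N) hh.2 (hV0N g hg.1)
    · rw [← map_pow]
      exact (hπ1 _).2 (hKc k hkK)
  -- the sharp normal subgroup
  let W : Subgroup G :=
    { carrier := {g | g ∈ V0 ⊓ C ∧ g ^ N ∈ E}
      mul_mem' := by
        rintro g h ⟨hg, hg'⟩ ⟨hh, hh'⟩
        refine ⟨mul_mem hg hh, ?_⟩
        have hgS : g ∈ P.S y := hV0y g hg.1
        have hhS : h ∈ P.S y := hV0y h hh.1
        have h1 : π ((⟨g, hgS⟩ * ⟨h, hhS⟩) ^ N) = 1 := by
          rw [map_pow, map_mul, (hcomm ⟨g, hgS⟩ ⟨h, hhS⟩ hg hh).mul_pow, ← map_pow, ← map_pow,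
            (hπ1 (⟨g, hgS⟩ ^ N)).2 hg', (hπ1 (⟨h, hhS⟩ ^ N)).2 hh', one_mul]
        exact (hπ1 _).1 h1
      one_mem' := ⟨one_mem _, by rw [one_pow]; exact one_mem _⟩
      inv_mem' := by
        rintro g ⟨hg, hg'⟩
        exact ⟨inv_mem hg, by rw [inv_pow]; exact inv_mem hg'⟩ }
  have hW : W ≤ P.K y := by
    refine no_sharp F W (fun g hg => hV0y g hg.1.1) ?_ ?_
    · rintro g hg a ⟨ha, ha'⟩
      refine ⟨mem_inf.2 ⟨hV0n g hg a ha.1, hCn g hg a ha.2⟩, ?_⟩
      rw [conj_pow]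
      exact hEn g hg _ ha'
    · rintro a ha g ⟨⟨hg, hg'⟩, hga⟩
      have h1 : g ∈ P.K y := hV0f g hg.1 a ha hga
      have h2 : g ∈ E := mem_of_coprime hc hg' (hKc g h1)
      exact (E_le hB hy hx ha h2).1
  -- `V0 ⊓ C` is not contained in `K y`
  apply hne
  intro g hg
  have hgy : g • y = y := hg.2 y (P.symm hx)
  refine ⟨hgy, fun a ha => ?_⟩
  obtain ⟨v, hv, hva⟩ := hV0t x a hx ha
  have hvy : v • y = y := hV0y v hv
  have h1 : g * v * g⁻¹ * v⁻¹ ∈ V0 ⊓ C := by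
    refine mem_inf.2 ⟨mul_mem (hV0n g hgy v hv) (inv_mem hv), ?_⟩
    have h2 := mul_mem (hKC hg) (hCn v hvy _ (inv_mem (hKC hg)))
    have h3 : g * (v * g⁻¹ * v⁻¹) = g * v * g⁻¹ * v⁻¹ := by group
    rwa [h3] at h2
  have h2 : g * v * g⁻¹ * v⁻¹ ∈ P.K y := by
    refine mem_of_coprime hc (hV0N _ h1.1) (hW ⟨pow_mem h1 c, ?_⟩)
    rw [← pow_mul, mul_comm, pow_mul]
    exact hKc _ (hV0N _ h1.1)
  have h3 := h2.2 (g • a) (adj_smul_of_fix P hgy ha)
  have h4 := h2.2 a ha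
  rw [mul_smul, mul_smul, mul_smul, ← hva, inv_smul_smul, inv_fix hg.1] at h4
  rw [hva] at h4
  exact h4

/-- **Complement lemma**, prime form -/
theorem complement' (F : Facts P) (hB : CaseB P b) (hy : P.tp y = b) {x : V} (hx : P.adj y x) (hne : ¬ P.K x ≤ P.K y)
    (haff : Aff (P.L y)) {r e : ℕ} (hr : r.Prime) (hq : P.q (P.tp y) + 1 = r ^ e)
    (hdvd : ¬ r ∣ (P.K x ⊓ P.K y).relIndex (P.K y)) : False := by
  refine complement F hB hy hx hne haff ?_
  rw [hq]
  exact Nat.Coprime.pow_left e ((Nat.Prime.coprime_iff_not_dvd hr).2 hdvd)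

end CaseB

end Cfsg.Agent.H115.Tits
end

private theorem dce_17401748daea : _root_.True := by
  try have : _root_.True := by simp only [_root_.Cfsg.Agent.H263.TW.J.eq_def]
  try have : _root_.True := by simp only [_root_.Cfsg.Agent.H263.TW.J.eq_2]
  try have : _root_.True := by simp only [_root_.Cfsg.Agent.H263.TW.J.eq_1]
  exact _root_.True.intro
end

-- part: H592/Tits/T4
section
prune_inst 0x20104000100000000000000000000000200000000000000020000000080000008000000000000000000000800000000001100000020000000a000000000400000003000010340d00000000000000000000000000000000000000000000000000000000000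
set_option linter.all false
open scoped Cfsg.Agent.FastGrp

/-!
# S3414, case (B), `t = 4` (helper592)
-/

set_option autoImplicit false

namespace Cfsg.Agent.H592.T4

open Subgroup Cfsg.Agent.H873.Tits Cfsg.Agent.H115.Tits Cfsg.Agent.H263.TW

universe u v

variable {G : Type u} [Group G] {V : Type v} [MulAction G V]

theorem num_aux {i E d s m : ℕ} (hm : 2 ≤ m) (h1 : i * (E * d) = 4 ^ (m - 1) * s ^ m) (hd : d ∣ s)
    (hE : E ∣ 4 ^ (m - 1) * s ^ (m - 2)) (hs : 0 < s) :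
    ∃ e j, E * e = 4 ^ (m - 1) * s ^ (m - 2) ∧ s = d * j ∧ i = e * s * j := by
  obtain ⟨e, he⟩ := hE
  obtain ⟨j, hj⟩ := hd
  refine ⟨e, j, he.symm, hj, ?_⟩
  have h0 : 0 < E * e := by rw [← he]; positivity
  have hE0 : 0 < E := Nat.pos_of_mul_pos_right h0 |> fun h => by
    rcases Nat.eq_zero_or_pos E with h' | h'
    · simp [h'] at h0
    · exact h'
  have hd0 : 0 < d := by
    rcases Nat.eq_zero_or_pos d with h' | h'
    · simp [h'] at hj; omega
    · exact h'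
  have h2 : s ^ m = s ^ (m - 2) * (s * s) := by
    rw [← pow_two, ← pow_add]
    congr 1
    omega
  rw [h2, ← mul_assoc (4 ^ (m - 1)), he] at h1
  have h3 : E * (d * i) = E * (d * (e * s * j)) := by
    calc E * (d * i) = i * (E * d) := by ring
      _ = E * e * (s * s) := h1
      _ = E * e * (s * (d * j)) := by rw [← hj]
      _ = _ := by ring
  exact Nat.eq_of_mul_eq_mul_left hd0 (Nat.eq_of_mul_eq_mul_left hE0 h3)

theorem EB_inf {P : Pol G V} (F : Facts P) (hn : P.n = 4) {x w w' : V} (hw : P.adj x w) (hw' : P.adj x w') (hne : w ≠ w') :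
    EB P w ⊓ EB P w' = ⊥ := by
  obtain ⟨p, hp, h1, h2, h3⟩ := F.extend3 (P.symm hw) hw' hne
  have h := J_eq_bot F hp
  rw [hn] at h
  have h4 : J P p 1 1 = EB P (p 1) ⊓ EB P (p 3) := rfl
  rw [show 4 / 2 - 1 = 1 from rfl, h4, h1, h3] at h
  exact h

theorem EB_comm {P : Pol G V} (F : Facts P) (hn : P.n = 4) {x w w' : V} (hw : P.adj x w) (hw' : P.adj x w') (hne : w ≠ w')
    {a c : G} (ha : a ∈ EB P w) (hc : c ∈ EB P w') : a * c = c * a := by
  have ha' : a ∈ P.S w' := K_le_S_nb hw' (EB_le_K_nb (P.symm hw) ha)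
  have hc' : c ∈ P.S w := K_le_S_nb hw (EB_le_K_nb (P.symm hw') hc)
  have h1 : a * c * a⁻¹ * c⁻¹ ∈ EB P w ⊓ EB P w' := by
    refine mem_inf.2 ⟨?_, ?_⟩
    · have h2 := conj_mem_EB hc' (inv_mem ha)
      have h3 := mul_mem ha h2
      rwa [show a * (c * a⁻¹ * c⁻¹) = a * c * a⁻¹ * c⁻¹ by group] at h3
    · exact mul_mem (conj_mem_EB ha' hc) (inv_mem hc)
  rw [EB_inf F hn hw hw' hne, mem_bot] at h1
  have h2 : a * c = c * a := by
    calc a * c = (a * c * a⁻¹ * c⁻¹) * (c * a) := by group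
      _ = c * a := by rw [h1, one_mul]
  exact h2

theorem card_ne_one {A : Type u} [Group A] [Finite A] {n : ℕ} (h : Nat.card A = n + 1) : Nat.card {a : A // a ≠ 1} = n := by
  have h1 : Nat.card ({1}ᶜ : Set A) = n := by
    rw [Nat.card_coe_set_eq, Set.ncard_compl, Set.ncard_singleton, h]
    rfl
  exact h1

theorem contra [Finite G] {P : Pol G V} (F : Facts P) {b : Bool} (hB : CaseB P b) {x y : V} (hy : P.tp y = b)
    (hx : P.adj y x) (hn : P.n = 4) (ht : P.q b = 4) (hs : P.q (!b) = 6) (hE : Nat.card (EB P y) = 4) : False := by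
  classical
  have hxy := P.symm hx
  have hfx := finite_nb P x
  have hfy := finite_nb P y
  have hcx : Nat.card {w : V // P.adj x w} = 7 := by rw [P.card_nb, P.tp_adj hx, hy, hs]
  have hcy : Nat.card {w : V // P.adj y w} = 5 := by rw [P.card_nb, hy, ht]
  -- all the groups have order 4
  have hEw : ∀ w, P.adj x w → Nat.card (EB P w) = 4 := by
    intro w hw
    obtain ⟨g, hg, hgw⟩ := trans_nb F hxy hw
    rw [← hgw, EB_smul, ← hE]
    exact (Nat.card_congr ((EB P y).equivMapOfInjective _ (MulAut.conj g).injective).toEquiv).symm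
  -- two further neighbours
  obtain ⟨w, hw, hwy⟩ : ∃ w, P.adj x w ∧ w ≠ y := by
    by_contra h
    push Not at h
    have : Nat.card {w : V // P.adj x w} ≤ 1 := by
      rw [Finite.card_le_one_iff_subsingleton]
      exact ⟨fun a c => Subtype.ext ((h a a.2).trans (h c c.2).symm)⟩
    omega
  obtain ⟨u0, hu0, hux⟩ : ∃ u, P.adj y u ∧ u ≠ x := by
    by_contra h
    push Not at h
    have : Nat.card {w : V // P.adj y w} ≤ 1 := by
      rw [Finite.card_le_one_iff_subsingleton]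
      exact ⟨fun a c => Subtype.ext ((h a a.2).trans (h c c.2).symm)⟩
    omega
  have hsemi : ∀ g ∈ EB P w, ∀ u, P.adj y u → u ≠ x → g • u = u → g = 1 := by
    intro g hg u hu hne hgu
    obtain ⟨p, hp, h1, h2, h3⟩ := F.extend3 hx hw hwy.symm
    refine J_semireg F hp (g := g) ?_ (u := u) (by rw [h1]; exact hu) (by rw [h2]; exact hne) hgu
    rw [hn]
    show g ∈ EB P (p 3)
    rw [h3]
    exact hg
  have hEx : ∀ v, P.adj x v → EB P v ≤ P.K x := fun v hv => EB_le_K_nb (P.symm hv)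
  have hmv : ∀ g ∈ P.K x, ∀ u, P.adj y u → u ≠ x → P.adj y (g • u) ∧ g • u ≠ x := by
    intro g hg u hu hne
    have hgy : g • y = y := hg.2 y hxy
    refine ⟨?_, fun h => hne ?_⟩
    · have := P.smul_adj g hu
      rwa [hgy] at this
    · have hgx : g • x = x := hg.1
      rw [← hgx] at h
      exact smul_left_cancel g h
  -- `EB w` is regular on the four neighbours of `y` different from `x`
  have hreg : ∀ u, P.adj y u → u ≠ x → ∃ h ∈ EB P w, h • u0 = u := by
    let f : EB P w → {u : {u : V // P.adj y u} // u ≠ ⟨x, hx⟩} := fun g =>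
      ⟨⟨(g : G) • u0, (hmv g (hEx w hw g.2) u0 hu0 hux).1⟩, fun h =>
        (hmv g (hEx w hw g.2) u0 hu0 hux).2 (congrArg Subtype.val h)⟩
    have hf : Function.Injective f := by
      rintro ⟨g, hg⟩ ⟨g', hg'⟩ h
      have h1 : g • u0 = g' • u0 := congrArg Subtype.val (congrArg Subtype.val h)
      have h2 : (g'⁻¹ * g) • u0 = u0 := by rw [mul_smul, h1, inv_smul_smul]
      have h3 := hsemi (g'⁻¹ * g) (mul_mem (inv_mem hg') hg) u0 hu0 hux h2
      exact Subtype.ext (inv_mul_eq_one.1 h3).symm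
    have hcard : Nat.card {u : {u : V // P.adj y u} // u ≠ ⟨x, hx⟩} = 4 := by
      have h1 : Nat.card ({⟨x, hx⟩}ᶜ : Set {u : V // P.adj y u}) = 4 := by
        rw [Nat.card_coe_set_eq, Set.ncard_compl, Set.ncard_singleton, hcy]
      exact h1
    have hb : Function.Bijective f := by
      rw [Nat.bijective_iff_injective_and_card]
      exact ⟨hf, by rw [hcard, hEw w hw]⟩
    intro u hu hne
    obtain ⟨g, hg⟩ := hb.2 ⟨⟨u, hu⟩, fun h => hne (congrArg Subtype.val h)⟩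
    exact ⟨g, g.2, congrArg Subtype.val (congrArg Subtype.val hg)⟩
  have hab : ∀ a ∈ EB P w, ∀ c ∈ EB P w, a * c = c * a := by
    intro a ha c hc
    have h1 := IsPGroup.isMulCommutative_of_card_eq_prime_sq (p := 2) (G := EB P w) (by rw [hEw w hw]; rfl)
    exact congrArg Subtype.val (h1.1.1 (⟨a, ha⟩ : EB P w) ⟨c, hc⟩)
  -- all the groups are contained in `EB w * EB y`
  have hall : ∀ v, P.adj x v → ∀ g ∈ EB P v, ∃ q : EB P w × EB P y, (q.1 : G) * (q.2 : G) = g := by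
    intro v hv g hg
    by_cases hvy : v = y
    · subst hvy
      exact ⟨(1, ⟨g, hg⟩), by simp⟩
    by_cases hvw : v = w
    · subst hvw
      exact ⟨(⟨g, hg⟩, 1), by simp⟩
    obtain ⟨h1, h2⟩ := hmv g (hEx v hv hg) u0 hu0 hux
    obtain ⟨h, hh, hhu⟩ := hreg _ h1 h2
    refine ⟨(⟨h, hh⟩, ⟨h⁻¹ * g, ?_⟩), mul_inv_cancel_left _ _⟩
    rw [← EB_eq hB hy hxy]
    have hKx : h⁻¹ * g ∈ P.K x := mul_mem (inv_mem (hEx w hw hh)) (hEx v hv hg)
    refine ⟨hKx, hKx.2 y hxy, fun u hu => ?_⟩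
    by_cases hux' : u = x
    · subst hux'
      exact hKx.1
    · obtain ⟨k, hk, rfl⟩ := hreg u hu hux'
      have e1 : g * k = k * g := EB_comm F hn hv hw hvw hg hk
      have e2 : h * k = k * h := hab h hh k hk
      rw [mul_smul, inv_smul_eq_iff, ← mul_smul, e1, mul_smul, ← hhu, ← mul_smul, ← mul_smul, e2]
  choose! q hq using hall
  let A := Σ v : {v : V // P.adj x v}, {g : EB P v.1 // g ≠ 1}
  have hA : Nat.card A = 21 := by
    have : Fintype {v : V // P.adj x v} := Fintype.ofFinite _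
    rw [Nat.card_sigma]
    have h3 : ∀ v : {v : V // P.adj x v}, Nat.card {g : EB P v.1 // g ≠ 1} = 3 := fun v =>
      card_ne_one (hEw v.1 v.2)
    rw [Finset.sum_congr rfl (fun v _ => h3 v), Finset.sum_const, Finset.card_univ, ← Nat.card_eq_fintype_card, hcx]
    rfl
  let f : A → {a : EB P w × EB P y // a ≠ 1} := fun a => ⟨q a.1.1 a.2.1, by
    intro h
    have h1 := hq a.1.1 a.1.2 a.2.1 a.2.1.2
    rw [h] at h1
    have h2 : ((a.2.1 : EB P a.1.1) : G) = 1 := by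
      rw [← h1]
      simp
    exact a.2.2 (Subtype.ext h2)⟩
  have hf : Function.Injective f := by
    rintro ⟨⟨v, hv⟩, ⟨g, hg⟩, hg1⟩ ⟨⟨v', hv'⟩, ⟨g', hg'⟩, hg1'⟩ h
    have h1 : q v g = q v' g' := congrArg Subtype.val h
    have h2 : g = g' := by rw [← hq v hv g hg, ← hq v' hv' g' hg', h1]
    subst h2
    have h3 : v = v' := by
      by_contra hne
      have h4 : g ∈ EB P v ⊓ EB P v' := ⟨hg, hg'⟩
      rw [EB_inf F hn hv hv' hne, mem_bot] at h4
      exact hg1 (Subtype.ext h4)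
    subst h3
    rfl
  have hle := Nat.card_le_card_of_injective f hf
  have h15 : Nat.card {a : EB P w × EB P y // a ≠ 1} = 15 := card_ne_one (by rw [Nat.card_prod, hEw w hw, hE])
  omega

/-- the numerical part: `s = 2` -/
theorem two_of_dvd [Finite G] {P : Pol G V} (F : Facts P) (N : Num P) {b : Bool} (hB : CaseB P b) {x y y' : V}
    (hy : P.tp y = b) (hx : P.adj y x) (ho : P.Opp y y') (ht : P.q b = 4) (hidx6 : P.idx y y' ∣ 6) :
    P.q (!b) = 2 ∧ ¬ 3 ∣ P.idx y y' := by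
  have hcount := caseB_idx F hB hy ho
  obtain ⟨w, hxw, hwy⟩ : ∃ w, P.adj x w ∧ w ≠ y := by
    have hfx := finite_nb P x
    by_contra h
    push Not at h
    have h1 : Nat.card {w : V // P.adj x w} ≤ 1 := by
      rw [Finite.card_le_one_iff_subsingleton]
      exact ⟨fun a c => Subtype.ext ((h a a.2).trans (h c c.2).symm)⟩
    rw [P.card_nb] at h1
    have := P.two_le (P.tp x)
    omega
  obtain ⟨d, hd, hK⟩ := caseB_card_K F hB hy hx hxw hwy
  have hEd := F.caseB_card hB hy (P.symm hx)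
  rw [EB_eq hB hy (P.symm hx)] at hEd
  rw [hK] at hcount
  rw [ht] at hcount hEd
  have hs2 : 2 ≤ P.q (!b) := P.two_le _
  generalize hs : P.q (!b) = s at *
  have hm : 2 ≤ P.n / 2 := by rcases P.hn with h | h | h <;> rw [h] <;> norm_num
  obtain ⟨e, j, he, hj, hi⟩ := num_aux hm hcount hd hEd (by omega)
  have hs6 : s ∣ 6 := by
    refine Dvd.dvd.trans ?_ hidx6
    rw [hi]
    exact ⟨e * j, by ring⟩
  have hs' : s = 2 ∨ s = 3 ∨ s = 6 := by
    have h1 := Nat.le_of_dvd (by norm_num) hs6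
    have h2 : ∀ k : ℕ, 2 ≤ k → k ≤ 6 → k ∣ 6 → k = 2 ∨ k = 3 ∨ k = 6 := by
      intro k h2 h3 h4
      interval_cases k <;> simp_all
    exact h2 s hs2 h1 hs6
  have hprod : P.q true * P.q false = 4 * s := by
    cases b
    · rw [Bool.not_false] at hs
      rw [hs, ht, mul_comm]
    · rw [Bool.not_true] at hs
      rw [hs, ht]
  have hsum : P.q true + P.q false = 4 + s := by
    cases b
    · rw [Bool.not_false] at hs
      rw [hs, ht, add_comm]
    · rw [Bool.not_true] at hs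
      rw [hs, ht]
  rcases hs' with h2 | h36
  · refine ⟨h2, ?_⟩
    intro h3
    have h4 : 3 ∣ e * (s * j) := by
      rw [hi] at h3
      rwa [mul_assoc] at h3
    have h30 : Nat.Prime 3 := Nat.prime_three
    rcases (h30.dvd_mul).1 h4 with h5 | h5
    · have h6 : 3 ∣ 4 ^ (P.n / 2 - 1) * s ^ (P.n / 2 - 2) := he ▸ h5.mul_left _
      rcases (h30.dvd_mul).1 h6 with h7 | h7
      · have := h30.dvd_of_dvd_pow h7
        norm_num at this
      · have := h30.dvd_of_dvd_pow h7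
        rw [h2] at this
        norm_num at this
    · rcases (h30.dvd_mul).1 h5 with h7 | h7
      · rw [h2] at h7
        norm_num at h7
      · have h8 : 3 ∣ s := hj ▸ h7.mul_left _
        rw [h2] at h8
        norm_num at h8
  · exfalso
    rcases P.hn with hn | hn | hn
    · have h4 := N.fh4 hn
      rw [hsum] at h4
      have e1 : 2 * P.q true * P.q false * (1 + P.q true) * (1 + P.q false) = 2 * (4 * s) * (1 + (4 + s) + 4 * s) := by
        rw [← hprod, ← hsum]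
        ring
      rw [e1] at h4
      rcases h36 with h3 | h3
      · rw [h3] at h4
        norm_num at h4
      · have hidx : e * s * j ∣ 6 := hi ▸ hidx6
        rw [h3] at hidx
        have h7 : e * j ∣ 1 := by
          have h8 : 6 * (e * j) ∣ 6 * 1 := by
            rw [show 6 * (e * j) = e * 6 * j by ring]
            exact hidx
          exact Nat.dvd_of_mul_dvd_mul_left (by norm_num) h8
        have h9 : e = 1 := Nat.eq_one_of_mul_eq_one_right (Nat.dvd_one.1 h7)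
        rw [h9, hn] at he
        norm_num at he
        exact contra F hB hy hx hn ht (hs.trans h3) he
    · obtain ⟨g, hg, -⟩ := N.fh6 hn
      rw [hprod] at hg
      have : g ≤ 5 := by
        by_contra h
        push Not at h
        have : 36 ≤ g ^ 2 := by nlinarith
        rcases h36 with h3 | h3 <;> rw [h3] at hg <;> omega
      interval_cases g <;> rcases h36 with h3 | h3 <;> rw [h3] at hg <;> omega
    · obtain ⟨g, hg, -⟩ := N.fh8 hn
      rw [mul_assoc, hprod] at hg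
      have : g ≤ 7 := by
        by_contra h
        push Not at h
        have : 64 ≤ g ^ 2 := by nlinarith
        rcases h36 with h3 | h3 <;> rw [h3] at hg <;> omega
      interval_cases g <;> rcases h36 with h3 | h3 <;> rw [h3] at hg <;> omega

end Cfsg.Agent.H592.T4
end

-- part: H592/Tits/BS5
section
set_option linter.all false
open scoped Cfsg.Agent.FastGrp

/-!
# S3414, case (B): `S_5 > 5:4` (helper592)
-/

set_option autoImplicit false

namespace Cfsg.Agent.H592.T4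

open Subgroup Cfsg.Agent.H873.Tits Cfsg.Agent.H506.Tits Cfsg.Agent.H263.TW

universe u v

/-- **BS5.** -/
theorem st_bs5 : StBS5.{u, v} := by
  intro G _ _ V _ _ P F N b hB y y' hy ho ht hL hL'
  have h1 : P.idx y y' = 6 := by
    have h2 : Nat.card ↥(P.L' y y') * (P.L' y y').relIndex (P.L y) = Nat.card ↥(P.L y) :=
      Cfsg.Agent.H592.E4.card_mul_rel Cfsg.Agent.H592.E4.L'_le_L
    rw [hL, hL'] at h2
    show (P.L' y y').relIndex (P.L y) = 6
    omega
  obtain ⟨x, hx⟩ : ∃ x, P.adj y x := by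
    have hfin := finite_nb P y
    have h3 : Nat.card {w : V // P.adj y w} ≠ 0 := by rw [P.card_nb]; omega
    obtain ⟨⟨x⟩, -⟩ := Nat.card_ne_zero.1 h3
    exact ⟨x.1, x.2⟩
  have h3 := (two_of_dvd F N hB hy hx ho ht (by rw [h1])).2
  rw [h1] at h3
  exact h3 (by norm_num)

end Cfsg.Agent.H592.T4
end

-- part: H272/TP/BAS
section
prune_inst 0x20000020000000000000000000001c42a2000000000b00010040000004808c0100000e20b0000312010000240038004000100009001000002000020041180080000220809008a100200000008800000000000000000000000000000000000000000000000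
set_option linter.all false
open scoped Cfsg.Agent.FastGrp

/-!
# S3414, case (B), the almost simple point stabilizer: `StBAS` (helper272)

For `v ≠ w` in `Γ(x)` the group `E_v = K x ⊓ K v` is not contained in `K w`; the image on `Γ(w)` of a normal subgroup of
`K x` not contained in `K w` contains the simple group `N`.  Hence `|N| ^ s ≤ |E_y| ≤ t ^ (m - 1) s ^ (m - 2) ≤ s ^ 8`
by Higman's inequality, against `60 ≤ |N|`.
-/

set_option autoImplicit false
set_option linter.unusedSectionVars false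

namespace Cfsg.Agent.H272.TP

open Subgroup Cfsg.Agent.H873.Tits Cfsg.Agent.H263.TW Cfsg.Agent.H506.Tits

universe u v

/-- a normal simple subgroup `N` of `A` with trivial centralizer is contained in every nontrivial `X ≤ A` normalised by `N` -/
theorem simple_le {M : Type*} [Group M] {A N X : Subgroup M} (hNA : N ≤ A) (hN : (N.subgroupOf A).Normal)
    (hs : IsSimpleGroup N) (hC : Subgroup.centralizer (N : Set M) ⊓ A = ⊥) (hXA : X ≤ A)
    (hX : ∀ n ∈ N, ∀ x ∈ X, n * x * n⁻¹ ∈ X) (hne : X ≠ ⊥) : N ≤ X := by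
  have hXN : (X.subgroupOf N).Normal := by
    refine ⟨fun a ha n => ?_⟩
    rw [mem_subgroupOf] at ha ⊢
    exact hX n n.2 a ha
  rcases hs.eq_bot_or_eq_top_of_normal _ hXN with h | h
  · exfalso
    apply hne
    rw [eq_bot_iff]
    intro x hx
    rw [← hC]
    refine mem_inf.2 ⟨mem_centralizer_iff.2 ?_, hXA hx⟩
    intro n hn
    have h1 : x * n * x⁻¹ ∈ N := by
      have := hN.conj_mem ⟨n, hNA hn⟩ (mem_subgroupOf.2 hn) ⟨x, hXA hx⟩
      exact mem_subgroupOf.1 this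
    have h2 : x * n * x⁻¹ * n⁻¹ ∈ X := by
      have h3 := mul_mem hx (hX n hn _ (inv_mem hx))
      have h4 : x * (n * x⁻¹ * n⁻¹) = x * n * x⁻¹ * n⁻¹ := by group
      rwa [h4] at h3
    have h5 : (⟨x * n * x⁻¹ * n⁻¹, mul_mem h1 (inv_mem hn)⟩ : N) ∈ X.subgroupOf N := mem_subgroupOf.2 h2
    rw [h, mem_bot] at h5
    have h6 : x * n * x⁻¹ * n⁻¹ = 1 := congrArg Subtype.val h5
    rw [mul_inv_eq_one, mul_inv_eq_iff_eq_mul] at h6
    exact h6.symm
  · exact subgroupOf_eq_top.1 h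

variable {G : Type u} [Group G] {V : Type v} [MulAction G V] {P : Pol G V}

/-- the normal subgroups of `K x` not contained in `K v` -/
def Sim (P : Pol G V) (c : ℕ) (x v : V) : Prop :=
  ∀ X : Subgroup G, X ≤ P.K x → (∀ k ∈ P.K x, ∀ a ∈ X, k * a * k⁻¹ ∈ X) → ¬ X ≤ P.K v →
    c * Nat.card ↥(X ⊓ P.K v) ≤ Nat.card X ∧
    ∀ Y : Subgroup G, Y ≤ P.K x → (∀ k ∈ P.K x, ∀ a ∈ Y, k * a * k⁻¹ ∈ Y) → ¬ Y ≤ P.K v → ¬ X ⊓ Y ≤ P.K v

theorem K_le_S' {x y : V} (h : P.adj x y) : P.K x ≤ P.S y := fun _ hg => mem_S.2 (hg.2 y h)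

theorem img_ne_bot {y : V} {X : Subgroup G} (hX : X ≤ P.S y) (h : ¬ X ≤ P.K y) : P.img y X ≠ ⊥ := by
  intro h1
  apply h
  intro g hg
  rw [← toPerm_eq_one (hX hg)]
  have h2 : P.toPerm y ⟨g, hX hg⟩ ∈ P.img y X := mem_img.2 ⟨g, hX hg, hg, rfl⟩
  rw [h1, mem_bot] at h2
  exact h2

theorem conj_K {x : V} {g k : G} (hg : g ∈ P.S x) (hk : k ∈ P.K x) : g * k * g⁻¹ ∈ P.K x :=
  H115.Tits.K_conj' P (mem_S.1 hg) hk

theorem sim_self [Finite G] {x y : V} (hyx : P.adj y x) (hne : ¬ P.K x ≤ P.K y)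
    {N : Subgroup (Equiv.Perm {w : V // P.adj y w})} (hNA : N ≤ Stb (P.L y) ⟨x, hyx⟩)
    (hN : (N.subgroupOf (Stb (P.L y) ⟨x, hyx⟩)).Normal) (hs : IsSimpleGroup N) (hna : ¬ IsMulCommutative N)
    (hC : Subgroup.centralizer (N : Set (Equiv.Perm {w : V // P.adj y w})) ⊓ Stb (P.L y) ⟨x, hyx⟩ = ⊥) :
    Sim P (Nat.card N) x y := by
  have hKS : P.K x ≤ P.S y := K_le_S' (P.symm hyx)
  have himg : ∀ X : Subgroup G, X ≤ P.K x → P.img y X ≤ Stb (P.L y) ⟨x, hyx⟩ := by
    intro X hX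
    rw [← img_S hyx]
    exact img_mono (hX.trans (P.K_le_S x))
  -- `N ≤ img y (K x)`
  have h1 : N ≤ P.img y (P.K x) := by
    refine simple_le hNA hN hs hC (himg _ le_rfl) ?_ (img_ne_bot hKS hne)
    intro n hn a ha
    have hn' := hNA hn
    rw [← img_S hyx] at hn'
    obtain ⟨g, hg, hgx, rfl⟩ := mem_img.1 hn'
    obtain ⟨k, hk, hkx, rfl⟩ := mem_img.1 ha
    refine mem_img.2 ⟨g * k * g⁻¹, mul_mem (mul_mem hg hk) (inv_mem hg), conj_K hgx hkx, ?_⟩
    rw [← map_inv, ← map_mul, ← map_mul]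
    rfl
  have h2 : ∀ X : Subgroup G, X ≤ P.K x → (∀ k ∈ P.K x, ∀ a ∈ X, k * a * k⁻¹ ∈ X) → ¬ X ≤ P.K y → N ≤ P.img y X := by
    intro X hX hXn hXne
    refine simple_le hNA hN hs hC (himg _ hX) ?_ (img_ne_bot (hX.trans hKS) hXne)
    intro n hn a ha
    obtain ⟨g, hg, hgx, rfl⟩ := mem_img.1 (h1 hn)
    obtain ⟨k, hk, hkx, rfl⟩ := mem_img.1 ha
    refine mem_img.2 ⟨g * k * g⁻¹, mul_mem (mul_mem hg hk) (inv_mem hg), hXn g hgx k hkx, ?_⟩
    rw [← map_inv, ← map_mul, ← map_mul]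
    rfl
  intro X hX hXn hXne
  refine ⟨?_, ?_⟩
  · rw [← card_img (hX.trans hKS)]
    have : Finite {w : V // P.adj y w} := finite_nb P y
    exact Nat.mul_le_mul_right _ (Subgroup.card_le_of_le (h2 X hX hXn hXne))
  · intro Y hY hYn hYne hXY
    apply hna
    refine ⟨⟨fun a b => Subtype.ext ?_⟩⟩
    obtain ⟨g, hg, hgX, hga⟩ := mem_img.1 (h2 X hX hXn hXne a.2)
    obtain ⟨k, hk, hkY, hkb⟩ := mem_img.1 (h2 Y hY hYn hYne b.2)
    have h3 : g * k * g⁻¹ * k⁻¹ ∈ X ⊓ Y := by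
      refine mem_inf.2 ⟨?_, mul_mem (hYn g (hX hgX) k hkY) (inv_mem hkY)⟩
      have h4 := mul_mem hgX (hXn k (hY hkY) _ (inv_mem hgX))
      have h5 : g * (k * g⁻¹ * k⁻¹) = g * k * g⁻¹ * k⁻¹ := by group
      rwa [h5] at h4
    have h6 : P.toPerm y (⟨g, hg⟩ * ⟨k, hk⟩ * ⟨g, hg⟩⁻¹ * ⟨k, hk⟩⁻¹) = 1 :=
      (toPerm_eq_one (mul_mem (mul_mem (mul_mem hg hk) (inv_mem hg)) (inv_mem hk))).2 (hXY h3)
    rw [map_mul, map_mul, map_mul, map_inv, map_inv, hga, hkb, mul_inv_eq_one, mul_inv_eq_iff_eq_mul] at h6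
    exact h6

theorem sim_smul [Finite G] {c : ℕ} {x y : V} (h : Sim P c x y) {g : G} (hg : g ∈ P.S x) : Sim P c x (g • y) := by
  have hK : ∀ a : G, a ∈ P.K (g • y) ↔ g⁻¹ * a * g ∈ P.K y := by
    intro a
    constructor
    · intro ha
      have := H115.Tits.K_conj P g⁻¹ ha
      rwa [inv_smul_smul, inv_inv] at this
    · intro ha
      have := H115.Tits.K_conj P g ha
      have h1 : g * (g⁻¹ * a * g) * g⁻¹ = a := by group
      rwa [h1] at this
  let cj : Subgroup G → Subgroup G := fun X => X.comap (MulAut.conj g).toMonoidHom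
  have hcj : ∀ (X : Subgroup G) (a : G), a ∈ cj X ↔ g * a * g⁻¹ ∈ X := fun X a => Iff.rfl
  have hcard : ∀ X : Subgroup G, Nat.card (cj X) = Nat.card X := by
    intro X
    refine Nat.card_congr ⟨fun a => ⟨g * a * g⁻¹, (hcj X _).1 a.2⟩, fun a => ⟨g⁻¹ * a * g, ?_⟩, ?_, ?_⟩
    · rw [hcj]
      have h1 : g * (g⁻¹ * a * g) * g⁻¹ = (a : G) := by group
      rw [h1]
      exact a.2
    · intro a
      apply Subtype.ext
      show g⁻¹ * (g * a * g⁻¹) * g = a
      group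
    · intro a
      apply Subtype.ext
      show g * (g⁻¹ * a * g) * g⁻¹ = a
      group
  have hle : ∀ X : Subgroup G, X ≤ P.K x → cj X ≤ P.K x := by
    intro X hX a ha
    have h1 := conj_K (inv_mem hg) (hX ((hcj X a).1 ha))
    have h2 : g⁻¹ * (g * a * g⁻¹) * g⁻¹⁻¹ = a := by group
    rwa [h2] at h1
  have hnm : ∀ X : Subgroup G, (∀ k ∈ P.K x, ∀ a ∈ X, k * a * k⁻¹ ∈ X) →
      ∀ k ∈ P.K x, ∀ a ∈ cj X, k * a * k⁻¹ ∈ cj X := by
    intro X hX k hk a ha
    rw [hcj] at ha ⊢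
    have h1 := hX _ (conj_K hg hk) _ ha
    have h2 : g * k * g⁻¹ * (g * a * g⁻¹) * (g * k * g⁻¹)⁻¹ = g * (k * a * k⁻¹) * g⁻¹ := by group
    rwa [h2] at h1
  have hin : ∀ X : Subgroup G, ¬ X ≤ P.K (g • y) → ¬ cj X ≤ P.K y := by
    intro X hX h1
    apply hX
    intro a ha
    rw [hK]
    apply h1
    rw [hcj]
    have h2 : g * (g⁻¹ * a * g) * g⁻¹ = a := by group
    rwa [h2]
  intro X hX hXn hXne
  obtain ⟨h1, h2⟩ := h (cj X) (hle X hX) (hnm X hXn) (hin X hXne)
  refine ⟨?_, ?_⟩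
  · have h3 : cj X ⊓ P.K y = cj (X ⊓ P.K (g • y)) := by
      ext a
      rw [mem_inf, hcj, hcj, mem_inf, hK]
      have h4 : g⁻¹ * (g * a * g⁻¹) * g = a := by group
      rw [h4]
    rwa [h3, hcard, hcard] at h1
  · intro Y hY hYn hYne hXY
    refine h2 (cj Y) (hle Y hY) (hnm Y hYn) (hin Y hYne) ?_
    rintro a ⟨ha, ha'⟩
    have h3 : g * a * g⁻¹ ∈ P.K (g • y) := hXY ⟨(hcj X a).1 ha, (hcj Y a).1 ha'⟩
    rw [hK] at h3
    have h4 : g⁻¹ * (g * a * g⁻¹) * g = a := by group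
    rwa [h4] at h3

/-- `E_v` is not contained in `K w` -/
theorem E_not_le (F : Facts P) {b : Bool} (hB : CaseB P b) {x y : V} (hyx : P.adj y x) (hy : P.tp y = b)
    (hE : P.K x ⊓ P.K y ≠ ⊥) {v w : V} (hv : P.adj x v) (hw : P.adj x w) (hvw : v ≠ w) : ¬ P.K x ⊓ P.K v ≤ P.K w := by
  intro h
  have hxy := P.symm hyx
  -- the same for all pairs
  have hall : ∀ v' w' : V, P.adj x v' → P.adj x w' → v' ≠ w' → P.K x ⊓ P.K v' ≤ P.K w' := by
    intro v' w' hv' hw' hne a ha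
    obtain ⟨g, hg, h1, h2⟩ := F.two_trans hv hw hvw hv' hw' hne
    have h3 : g⁻¹ * a * g⁻¹⁻¹ ∈ P.K x ⊓ P.K v := by
      refine ⟨conj_K (inv_mem hg) ha.1, ?_⟩
      have := H115.Tits.K_conj P g⁻¹ ha.2
      rwa [← h1, inv_smul_smul] at this
    have h4 := H115.Tits.K_conj P g (h h3)
    rw [h2] at h4
    have h5 : g * (g⁻¹ * a * g⁻¹⁻¹) * g⁻¹ = a := by group
    rwa [h5] at h4
  apply hE
  refine F.core (P.K x ⊓ P.K y) hxy (le_inf (inf_le_left.trans (P.K_le_S x)) (inf_le_right.trans (P.K_le_S y))) ?_ ?_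
  · intro g hg a ha
    refine ⟨conj_K hg ha.1, ?_⟩
    by_cases hgy : g • y = y
    · have := H115.Tits.K_conj P g ha.2
      rwa [hgy] at this
    · have hxgy : P.adj x (g • y) := H115.Tits.adj_smul_of_fix P (mem_S.1 hg) hxy
      exact hall (g • y) y hxgy hxy hgy ⟨conj_K hg ha.1, H115.Tits.K_conj P g ha.2⟩
  · intro g hg a ha
    exact H115.Tits.E_conj hB hy hyx (mem_S.1 hg) ha

/-- the chain -/
theorem pow_le_card [Finite G] (F : Facts P) {b : Bool} (hB : CaseB P b) {x y : V} (hyx : P.adj y x) (hy : P.tp y = b)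
    (hE : P.K x ⊓ P.K y ≠ ⊥) {c : ℕ} (hS : Sim P c x y) (T : Finset {w : V // P.adj x w}) (hT : ∀ w ∈ T, w.1 ≠ y) :
    ∃ D : Subgroup G, D ≤ P.K x ∧ (∀ k ∈ P.K x, ∀ a ∈ D, k * a * k⁻¹ ∈ D) ∧
      (∀ w, P.adj x w → w ≠ y → (∀ v ∈ T, v.1 ≠ w) → ¬ D ≤ P.K w) ∧
      c ^ T.card * Nat.card D ≤ Nat.card ↥(P.K x ⊓ P.K y) := by
  classical
  have hxy := P.symm hyx
  have hKv : ∀ v : V, P.adj x v → ∀ k ∈ P.K x, ∀ a ∈ P.K x ⊓ P.K v, k * a * k⁻¹ ∈ P.K x ⊓ P.K v := by
    intro v hv k hk a ha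
    exact ⟨conj_K (P.K_le_S x hk) ha.1, conj_K (K_le_S' hv hk) ha.2⟩
  induction T using Finset.induction_on with
  | empty =>
    refine ⟨P.K x ⊓ P.K y, inf_le_left, hKv y hxy, fun w hw hwy _ => E_not_le F hB hyx hy hE hxy hw (Ne.symm hwy), ?_⟩
    rw [Finset.card_empty, pow_zero, one_mul]
  | @insert v T hvT ih =>
    obtain ⟨D, hD1, hD2, hD3, hD4⟩ := ih (fun w hw => hT w (Finset.mem_insert_of_mem hw))
    have hvy : v.1 ≠ y := hT v (Finset.mem_insert_self v T)
    have hsim : ∀ w : V, P.adj x w → Sim P c x w := by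
      intro w hw
      by_cases hwy : w = y
      · rw [hwy]; exact hS
      · obtain ⟨g, hg, hgw, -⟩ := F.two_trans hxy hw (Ne.symm hwy) hw hxy hwy
        rw [← hgw]
        exact sim_smul hS hg
    have hDv : ¬ D ≤ P.K v.1 := hD3 v.1 v.2 hvy (fun w hw h => hvT (by rwa [← Subtype.ext h]))
    refine ⟨D ⊓ P.K v.1, inf_le_left.trans hD1, ?_, ?_, ?_⟩
    · intro k hk a ha
      exact ⟨hD2 k hk a ha.1, conj_K (K_le_S' v.2 hk) ha.2⟩
    · intro w hw hwy hwT hle
      have h1 : D ⊓ (P.K x ⊓ P.K v.1) ≤ P.K w := by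
        rintro a ⟨ha, -, ha'⟩
        exact hle ⟨ha, ha'⟩
      exact (hsim w hw D hD1 hD2 (hD3 w hw hwy (fun u hu => hwT u (Finset.mem_insert_of_mem hu)))).2 (P.K x ⊓ P.K v.1)
        inf_le_left (hKv v.1 v.2) (E_not_le F hB hyx hy hE v.2 hw (hwT v (Finset.mem_insert_self v T))) h1
    · have h1 := (hsim v.1 v.2 D hD1 hD2 hDv).1
      rw [Finset.card_insert_of_notMem hvT, pow_succ, mul_assoc]
      exact (Nat.mul_le_mul_left _ h1).trans hD4

theorem pow_lt {s : ℕ} (hs : 2 ≤ s) : s ^ 8 < 60 ^ s := by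
  induction s using Nat.strong_induction_on with
  | _ s ih =>
    rcases Nat.lt_or_ge s 5 with h | h
    · interval_cases s <;> norm_num
    · obtain ⟨r, rfl⟩ : ∃ r, s = r + 1 := ⟨s - 1, by omega⟩
      have h1 := ih r (by omega) (by omega)
      have h2 : (r + 1) ^ 8 ≤ 60 * r ^ 8 := by
        have h3 : 4 * (r + 1) ≤ 5 * r + 0 := by omega
        have h4 : (4 * (r + 1)) ^ 8 ≤ (5 * r) ^ 8 := Nat.pow_le_pow_left (by omega) 8
        rw [mul_pow, mul_pow] at h4
        norm_num at h4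
        omega
      rw [pow_succ 60 r]
      omega

/-- **`StBAS`** -/
theorem st_bas : StBAS.{u, v} := by
  intro G _ _ V _ _ P F Nm b hB x y hxy hy hne _ hE N hNA hN hs hna hC
  classical
  have hxy' := P.symm hxy
  have hsim := sim_self hxy hne hNA hN hs hna hC
  have h60 : 60 ≤ Nat.card N := by
    by_contra hcon
    have : Finite (Equiv.Perm {w : V // P.adj y w}) := inferInstance
    have hc : ¬ IsCyclic N := fun h => hna h.isMulCommutative
    have := Cfsg.Agent.S0493.result hc (by omega)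
    omega
  have hfin : Fintype {w : V // P.adj x w} := Fintype.ofFinite _
  have htx : P.tp x = !b := by rw [P.tp_adj hxy, hy]
  set T : Finset {w : V // P.adj x w} := Finset.univ.erase ⟨y, hxy'⟩ with hT
  have hTc : T.card = P.q (!b) := by
    rw [hT, Finset.card_erase_of_mem (Finset.mem_univ _), Finset.card_univ, ← Nat.card_eq_fintype_card, P.card_nb x, htx]
    rfl
  obtain ⟨D, -, -, -, hD⟩ := pow_le_card F hB hxy hy hE hsim T (fun w hw h => by
    rw [hT, Finset.mem_erase] at hw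
    exact hw.1 (Subtype.ext h))
  rw [hTc] at hD
  have hcard := F.caseB_card hB hy hxy'
  set s := P.q (!b) with hs'
  set t := P.q b with ht'
  have hs2 : 2 ≤ s := P.two_le _
  have ht2 : 2 ≤ t := P.two_le _
  have h1 : 60 ^ s ≤ Nat.card ↥(P.K x ⊓ P.K y) :=
    calc 60 ^ s ≤ Nat.card N ^ s := Nat.pow_le_pow_left h60 s
      _ ≤ Nat.card N ^ s * Nat.card D := Nat.le_mul_of_pos_right _ Nat.card_pos
      _ ≤ _ := hD
  have h2 : Nat.card ↥(P.K x ⊓ P.K y) ≤ t ^ (P.n / 2 - 1) * s ^ (P.n / 2 - 2) :=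
    Nat.le_of_dvd (Nat.mul_pos (Nat.pow_pos (by omega)) (Nat.pow_pos (by omega))) hcard
  have h3 : t ^ (P.n / 2 - 1) * s ^ (P.n / 2 - 2) ≤ s ^ 8 := by
    rcases P.hn with h | h | h
    · have h4 : t ≤ s ^ 2 := Nm.hig48 (Or.inl h) b
      rw [h]
      calc t ^ (4 / 2 - 1) * s ^ (4 / 2 - 2) = t := by norm_num
        _ ≤ s ^ 2 := h4
        _ ≤ s ^ 8 := Nat.pow_le_pow_right (by omega) (by norm_num)
    · have h4 : t ≤ s ^ 3 := Nm.hig6 h b
      rw [h]
      calc t ^ (6 / 2 - 1) * s ^ (6 / 2 - 2) = t ^ 2 * s := by norm_num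
        _ ≤ (s ^ 3) ^ 2 * s := Nat.mul_le_mul_right _ (Nat.pow_le_pow_left h4 2)
        _ = s ^ 7 := by ring
        _ ≤ s ^ 8 := Nat.pow_le_pow_right (by omega) (by norm_num)
    · have h4 : t ≤ s ^ 2 := Nm.hig48 (Or.inr h) b
      rw [h]
      calc t ^ (8 / 2 - 1) * s ^ (8 / 2 - 2) = t ^ 3 * s ^ 2 := by norm_num
        _ ≤ (s ^ 2) ^ 3 * s ^ 2 := Nat.mul_le_mul_right _ (Nat.pow_le_pow_left h4 3)
        _ = s ^ 8 := by ring
  have h5 := pow_lt hs2
  omega

end Cfsg.Agent.H272.TP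
end
end
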